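import Cfsg.Agent.Lib.KnownA.SL2Borel
import Cfsg.Agent.Lib.KnownA.AltMult.SLNine
import Cfsg.Agent.Lib.Classical.SLOrder

/-!
A perfect double cover of `PSL₂(q)`, `q` odd, is `SL₂(q)`.
-/

set_option autoImplicit false

namespace CfsgLib.Recog.GW

open Subgroup CfsgLib.KnownA.AltMult

universe u

theorem commutator_sl_two {F : Type*} [Field F] [Fintype F] (hq : 3 < Fintype.card F) :
    commutator (Matrix.SpecialLinearGroup (Fin 2) F) = ⊤ := by
  classical
  obtain ⟨a, -, ha⟩ := Finset.exists_mem_notMem_of_card_lt_card (s := ({0, 1, -1} : Finset F))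
    (t := Finset.univ) (by
      have := Finset.card_le_three (a := (0 : F)) (b := 1) (c := -1)
      rw [Finset.card_univ]; omega)
  simp only [Finset.mem_insert, Finset.mem_singleton, not_or] at ha
  refine Matrix.SL2.commutator_eq_top ha.1 fun h => ?_
  rcases sq_eq_one_iff.1 h with h | h
  · exact ha.2.1 h
  · exact ha.2.2 h

/-- A perfect double cover of `PSL₂(q)` for odd `q > 3` is `SL₂(q)`. -/
theorem equiv_sl_of_cover {H : Type u} [Group H] [Finite H] {F : Type} [Field F] [Fintype F]
    (hodd : Odd (Fintype.card F)) (hq : 3 < Fintype.card F) (hH : commutator H = ⊤)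
    (f : H →* Matrix.ProjectiveSpecialLinearGroup (Fin 2) F) (hf : Function.Surjective f)
    (hfc : f.ker ≤ center H) (hk : Nat.card f.ker = 2) :
    Nonempty (H ≃* Matrix.SpecialLinearGroup (Fin 2) F) := by
  let τ : Matrix.SpecialLinearGroup (Fin 2) F →* Matrix.ProjectiveSpecialLinearGroup (Fin 2) F :=
    QuotientGroup.mk' _
  have hτ : Function.Surjective τ := QuotientGroup.mk'_surjective _
  have hτk : τ.ker = center _ := QuotientGroup.ker_mk' _
  let P : Subgroup (H × Matrix.SpecialLinearGroup (Fin 2) F) :=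
    (f.comp (MonoidHom.fst _ _)).eqLocus (τ.comp (MonoidHom.snd _ _))
  let π : P →* Matrix.SpecialLinearGroup (Fin 2) F := (MonoidHom.snd _ _).comp P.subtype
  have hπ : Function.Surjective π := fun h => by
    obtain ⟨g, hg⟩ := hf (τ h)
    exact ⟨⟨(g, h), hg⟩, rfl⟩
  have hfst : ∀ x : P, x ∈ π.ker → (x : H × Matrix.SpecialLinearGroup (Fin 2) F).1 ∈ f.ker := by
    intro x hx
    have h2 : (x : H × Matrix.SpecialLinearGroup (Fin 2) F).2 = 1 := hx
    rw [MonoidHom.mem_ker,
      show f (x : H × Matrix.SpecialLinearGroup (Fin 2) F).1 =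
        τ (x : H × Matrix.SpecialLinearGroup (Fin 2) F).2 from x.2, h2, map_one]
  have hπc : π.ker ≤ center P := fun x hx => mem_center_iff.2 fun y => by
    have h2 : (x : H × Matrix.SpecialLinearGroup (Fin 2) F).2 = 1 := hx
    exact Subtype.ext (Prod.ext (mem_center_iff.1 (hfc (hfst x hx)) _) (by simp [h2]))
  have hst := stem_commutator hπ hπc (commutator_sl_two hq)
  set π' := π.comp (commutator P).subtype with hπ'
  -- the stem extension of `SL₂` is trivial
  have hinj : π'.ker = ⊥ := by
    by_cases h9 : Fintype.card F = 9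
    · have h3 := stemBound_sl_nine h9 _ _ hst
      rw [eq_bot_iff]
      intro x hx
      have hsq : x ^ 2 = 1 := by
        refine Subtype.ext (Subtype.ext (Prod.ext ?_ ?_))
        · have h0 := hfst (x : P) (MonoidHom.mem_ker.2 (MonoidHom.mem_ker.1 hx :))
          have h1 := pow_card_eq_one' (G := f.ker) (x := ⟨_, h0⟩)
          rw [hk] at h1
          exact congrArg Subtype.val h1
        · have h2 : ((x : P) : H × Matrix.SpecialLinearGroup (Fin 2) F).2 = 1 := hx
          simp [h2]
      have h1 : orderOf x ∣ 2 := orderOf_dvd_of_pow_eq_one hsq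
      have h2 : orderOf x ∣ 3 := (Subgroup.orderOf_dvd_natCard _ hx).trans h3
      exact Subgroup.mem_bot.2 (orderOf_eq_one_iff.1 (Nat.dvd_one.1 (Nat.dvd_gcd h1 h2)))
    · refine CfsgLib.KnownA.SL2Stem.stem_sl2_trivial (fun h => ?_) h9 hst
      rw [h] at hodd; exact absurd hodd (by decide)
  let e : commutator P ≃* Matrix.SpecialLinearGroup (Fin 2) F :=
    MulEquiv.ofBijective π' ⟨(MonoidHom.ker_eq_bot_iff _).1 hinj, hst.1⟩
  -- and it maps onto `H`
  let ψ : P →* H := (MonoidHom.fst _ _).comp P.subtype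
  have hψ : Function.Surjective ψ := fun g => by
    obtain ⟨h, hh⟩ := hτ (f g)
    exact ⟨⟨(g, h), hh.symm⟩, rfl⟩
  have hψ' : Function.Surjective (ψ.comp (commutator P).subtype) := fun g => by
    have hg : g ∈ (commutator P).map ψ := by
      rw [_root_.commutator_def, map_commutator, map_top_of_surjective ψ hψ, ← _root_.commutator_def, hH]
      trivial
    obtain ⟨x, hx, rfl⟩ := hg
    exact ⟨⟨x, hx⟩, rfl⟩
  have hcard : Nat.card (commutator P) = Nat.card H := by
    rw [Nat.card_congr e.toEquiv, τ.ker.card_eq_card_quotient_mul_card_subgroup,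
      f.ker.card_eq_card_quotient_mul_card_subgroup,
      Nat.card_congr (QuotientGroup.quotientKerEquivOfSurjective τ hτ).toEquiv,
      Nat.card_congr (QuotientGroup.quotientKerEquivOfSurjective f hf).toEquiv, hk, hτk,
      CfsgLib.Classical.card_center_sl, Fintype.card_fin]
    congr 1
    obtain ⟨k, hk'⟩ := hodd
    rw [hk', Nat.add_sub_cancel, Nat.gcd_mul_right_right]
  exact ⟨(MulEquiv.ofBijective (ψ.comp (commutator P).subtype)
    ((Nat.bijective_iff_surjective_and_card _).2 ⟨hψ', hcard⟩)).symm.trans e⟩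

end CfsgLib.Recog.GW
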