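import Cfsg.Agent.Lib.Recog.GW.RankOne
import Cfsg.Agent.Lib.Transfer.QuaternionSection
import Cfsg.Agent.Lib.FT.OddOrder
import Cfsg.Agent.Lib.Classical.SLTwoSylow

/-!
Generalized quaternion Sylow 2-subgroups with cyclic intersections, from the classification of perfect
groups with dihedral Sylow 2-subgroups.
-/

set_option autoImplicit false
set_option linter.unusedSectionVars false

namespace CfsgLib.Recog.GW

open Subgroup

universe u

variable {G : Type u} [Group G] [Finite G]

theorem not_klein (hQ : ∀ S : Sylow 2 G, ∃ n : ℕ, Nonempty ((S : Subgroup G) ≃* QuaternionGroup (2 ^ (n + 1))))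
    (E : Subgroup G) : ¬ IsKleinFour E := by
  intro hE
  haveI : Fact (Nat.Prime 2) := ⟨Nat.prime_two⟩
  obtain ⟨S, hS⟩ := (IsPGroup.of_card (n := 2) (by rw [hE.card_four]; norm_num) : IsPGroup 2 E).exists_le_sylow
  obtain ⟨n, ⟨e⟩⟩ := hQ S
  haveI : NeZero (2 ^ (n + 1)) := ⟨by positivity⟩
  have key : ∀ x : E, x ≠ 1 → e (inclusion hS x) = QuaternionGroup.a ((2 ^ (n + 1) : ℕ) : ZMod (2 * 2 ^ (n + 1))) := by
    intro x hx
    refine CfsgLib.Transfer.quaternion_eq_of_orderOf_two ?_
    rw [MulEquiv.orderOf_eq, orderOf_injective _ (inclusion_injective hS)]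
    refine orderOf_eq_prime ?_ hx
    have := Monoid.pow_exponent_eq_one x
    rwa [hE.exponent_two] at this
  have h4 : 2 < Nat.card E := by rw [hE.card_four]; norm_num
  haveI := Fintype.ofFinite E
  obtain ⟨x, y, w, hxy, hxw, hyw⟩ := (Fintype.two_lt_card_iff (α := E)).1 (by rwa [← Nat.card_eq_fintype_card])
  have h2 : ∀ a b : E, a ≠ 1 → b ≠ 1 → a = b := fun a b ha hb =>
    inclusion_injective hS (e.injective ((key a ha).trans (key b hb).symm))
  rcases eq_or_ne x 1 with rfl | hx
  · exact hyw (h2 y w (Ne.symm hxy) (Ne.symm hxw))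
  · rcases eq_or_ne y 1 with rfl | hy
    · exact hxw (h2 x w hx (Ne.symm hyw))
    · exact hxy (h2 x y hx hy)

theorem not_nilpotent_complement (hns : ¬ Group.IsSolvable G) : ¬ Cfsg.HasNormalPComplement 2 G := by
  intro h
  obtain ⟨N, hN, hNc, hq⟩ := CfsgLib.Transfer.hasNormalPComplement_iff_exists.1 h
  haveI := hN
  haveI : Group.IsSolvable N := CfsgLib.FT.odd_order_solvable (Nat.coprime_two_right.1 hNc)
  haveI : Fact (Nat.Prime 2) := ⟨Nat.prime_two⟩
  haveI := hq.isNilpotent
  refine hns (Group.isSolvable_of_ker_le_range N.subtype (QuotientGroup.mk' N) ?_)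
  rw [QuotientGroup.ker_mk', range_subtype]

/-- Cyclic intersections force quaternion groups of order eight. -/
theorem sylow_eight (hns : ¬ Group.IsSolvable G)
    (hQ : ∀ S : Sylow 2 G, ∃ n : ℕ, Nonempty ((S : Subgroup G) ≃* QuaternionGroup (2 ^ (n + 1))))
    (hC : ∀ S T : Sylow 2 G, S ≠ T → IsCyclic ↥((S : Subgroup G) ⊓ (T : Subgroup G)))
    (T : Sylow 2 G) : Nonempty ((T : Subgroup G) ≃* QuaternionGroup 2) := by
  haveI : Fact (Nat.Prime 2) := ⟨Nat.prime_two⟩
  have hnc := not_nilpotent_complement hns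
  rw [CfsgLib.Transfer.hasNormalPComplement_iff_frobenius] at hnc
  push Not at hnc
  obtain ⟨D, hD, g, hg, hgo, hgc⟩ := hnc
  have hodd : Odd (orderOf g) := Nat.coprime_two_right.1 hgo
  have hact : ∀ (H : Subgroup G) (hgH : g ∈ normalizer (H : Set G)),
      H.normalizerMonoidHom ⟨g, hgH⟩ ^ orderOf g = 1 := by
    intro H hgH
    rw [← map_pow, show (⟨g, hgH⟩ : normalizer (H : Set G)) ^ orderOf g = 1 from
      Subtype.ext (pow_orderOf_eq_one g), map_one]
  have htriv : ∀ (H : Subgroup G) (hgH : g ∈ normalizer (H : Set G)),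
      H.normalizerMonoidHom ⟨g, hgH⟩ = 1 → g ∈ centralizer (H : Set G) := by
    intro H hgH h
    have : (⟨g, hgH⟩ : normalizer (H : Set G)) ∈ H.normalizerMonoidHom.ker := h
    rw [normalizerMonoidHom_ker, mem_subgroupOf] at this
    exact this
  have hDc : ¬ IsCyclic D := fun hc => hgc (htriv D hg (by
    haveI := hc
    exact CfsgLib.Transfer.mulAut_eq_one_of_isCyclic_two hD _ hodd (hact D hg)))
  obtain ⟨S, hDS⟩ := hD.exists_le_sylow
  obtain ⟨n, ⟨e⟩⟩ := hQ S
  obtain ⟨e'⟩ : Nonempty ((T : Subgroup G) ≃* QuaternionGroup (2 ^ (n + 1))) := ⟨(T.equiv S).trans e⟩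
  rcases Nat.eq_zero_or_pos n with rfl | hn
  · exact ⟨e'⟩
  exfalso
  by_cases hgS : g ∈ normalizer ((S : Subgroup G) : Set G)
  · have hφ := hact (S : Subgroup G) hgS
    have h1 : MulAut.congr e ((S : Subgroup G).normalizerMonoidHom ⟨g, hgS⟩) = 1 :=
      CfsgLib.Transfer.mulAut_eq_one_of_quaternion_big (by omega) _ hodd
        (by rw [← map_pow, hφ, map_one])
    exact hgc (centralizer_le hDS (htriv _ hgS ((map_eq_one_iff _ (MulAut.congr e).injective).1 h1)))
  · have hne : g • S ≠ S := fun h => hgS (Sylow.smul_eq_iff_mem_normalizer.1 h)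
    have hle : D ≤ ((g • S : Sylow 2 G) : Subgroup G) := fun d hd => by
      change d ∈ g • S
      rw [CfsgLib.Transfer.sylow_smul_mem_iff]
      refine hDS ?_
      have h1 := (mem_normalizer_iff.1 ((normalizer (D : Set G)).inv_mem hg) d).1 hd
      rwa [inv_inv] at h1
    haveI := hC _ _ hne
    exact hDc (isCyclic_of_injective (inclusion (le_inf hle hDS)) (inclusion_injective _))

theorem derivedSeries_stable [Finite G] :
    ∃ k, derivedSeries G (k + 1) = derivedSeries G k := by
  by_contra h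
  push Not at h
  have hlt : ∀ k, Nat.card (derivedSeries G k) + k ≤ Nat.card G := by
    intro k
    induction k with
    | zero => rw [derivedSeries_zero, card_top, add_zero]
    | succ k ih =>
      have h1 : derivedSeries G (k + 1) < derivedSeries G k :=
        lt_of_le_of_ne (derivedSeries_antitone G (Nat.le_succ k)) (h k)
      have h2 : Nat.card (derivedSeries G (k + 1)) < Nat.card (derivedSeries G k) := by
        refine lt_of_le_of_ne (card_le_of_le h1.le) fun h2 => h1.ne (eq_of_le_of_card_ge h1.le h2.ge)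
      omega
  have := hlt (Nat.card G + 1)
  have := Nat.card_pos (α := derivedSeries G (Nat.card G + 1))
  omega

theorem card_alt_seven : Nat.card (alternatingGroup (Fin 7)) = 2520 := by
  rw [nat_card_alternatingGroup, Nat.card_fin]; rfl

/-- The consumer: quaternion Sylow 2-subgroups with cyclic intersections. -/
theorem quaternion_cyclic_intersections (hGW : PerfectDihedral.{u}) (hns : ¬ Group.IsSolvable G)
    (hQ : ∀ S : Sylow 2 G, ∃ n : ℕ, Nonempty ((S : Subgroup G) ≃* QuaternionGroup (2 ^ (n + 1))))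
    (hC : ∀ S T : Sylow 2 G, S ≠ T → IsCyclic ↥((S : Subgroup G) ⊓ (T : Subgroup G))) :
    (∀ S : Sylow 2 G, Nonempty (↥(S : Subgroup G) ≃* QuaternionGroup 2)) ∧
    ∃ (G₁ : Subgroup G) (_ : G₁.Normal) (_ : ((Cfsg.oddCore G).subgroupOf G₁).Normal),
      Odd G₁.index ∧ Cfsg.oddCore G ≤ G₁ ∧
      ∃ (F : Type) (_ : Field F) (_ : Fintype F), (Fintype.card F % 8 = 3 ∨ Fintype.card F % 8 = 5) ∧ 3 < Fintype.card F ∧
        Nonempty (↥G₁ ⧸ (Cfsg.oddCore G).subgroupOf G₁ ≃* Matrix.SpecialLinearGroup (Fin 2) F) := by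
  haveI : Fact (Nat.Prime 2) := ⟨Nat.prime_two⟩
  have h8 := sylow_eight hns hQ hC
  refine ⟨h8, ?_⟩
  obtain ⟨S⟩ := (inferInstance : Nonempty (Sylow 2 G))
  have h16 : ¬ 16 ∣ Nat.card G := by
    intro h
    have hS : Nat.card (S : Subgroup G) = 8 := by
      rw [Nat.card_congr (h8 S).some.toEquiv, Nat.card_eq_fintype_card, QuaternionGroup.card]
    have h4 : (2 : ℕ) ^ 4 ∣ Nat.card (S : Subgroup G) := S.pow_dvd_card_of_pow_dvd_card h
    rw [hS] at h4
    norm_num at h4
  obtain ⟨k, hk⟩ := derivedSeries_stable (G := G)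
  set X := derivedSeries G k with hX
  have hXn : X.Normal := derivedSeries_normal G k
  have hXp : commutator X = ⊤ := by
    have h1 : (commutator X).map X.subtype = X := by
      rw [map_subtype_commutator]; exact hk
    refine map_injective X.subtype_injective (h1.trans ?_)
    rw [← MonoidHom.range_eq_map, range_subtype]
  have hXne : X ≠ ⊥ := fun h => hns ⟨⟨k, h⟩⟩
  have hXe : Even (Nat.card X) := by
    rw [← Nat.not_odd_iff_even]
    intro h
    haveI : Group.IsSolvable X := CfsgLib.FT.odd_order_solvable h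
    haveI : Nontrivial X := (nontrivial_iff_ne_bot X).2 hXne
    haveI : Group.IsPerfect X := ⟨hXp⟩
    exact Group.IsPerfect.not_isSolvable X inferInstance
  have hrk : Cfsg.PRankLE 2 1 X := by
    intro A hAc hA
    by_contra hlt
    have hAp : IsPGroup 2 A := fun a => ⟨1, Subtype.ext (by
      rw [SubgroupClass.coe_pow, pow_one, hA _ a.2]; rfl)⟩
    obtain ⟨j, hj⟩ := hAp.exists_card_eq
    have hj2 : 2 ≤ j := by
      by_contra hj'
      rw [hj] at hlt
      exact hlt (Nat.pow_le_pow_right (by norm_num) (by omega))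
    obtain ⟨E, hE⟩ := Sylow.exists_subgroup_card_pow_prime (G := A) 2 (n := 2)
      (by rw [hj]; exact pow_dvd_pow 2 hj2)
    refine not_klein hQ ((E.map A.subtype).map X.subtype) (CfsgLib.Invol.isKleinFour_of_sq ?_ ?_)
    · rw [card_map_of_injective X.subtype_injective, card_map_of_injective A.subtype_injective, hE]
      norm_num
    · rintro _ ⟨_, ⟨u, -, rfl⟩, rfl⟩
      rw [← map_mul, ← pow_two, ← map_pow]
      have : u ^ 2 = 1 := Subtype.ext (by rw [SubgroupClass.coe_pow, hA _ u.2]; rfl)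
      rw [this, map_one, map_one]
  haveI : (Cfsg.oddCore X).Normal := CfsgLib.Solvable.pPrimeCore_normal 2 _
  haveI : (Cfsg.oddCore G).Normal := CfsgLib.Solvable.pPrimeCore_normal 2 _
  have hdvd : Nat.card (X ⧸ Cfsg.oddCore X) ∣ Nat.card G :=
    (Subgroup.card_quotient_dvd_card _).trans X.card_subgroup_dvd_card
  rcases rank_one_perfect hGW ⟨hXp⟩ hrk hXe with ⟨F, hF, hF', hodd, hq, ⟨e⟩⟩ | hA
  swap
  · exfalso
    obtain ⟨hc, ⟨q⟩, -⟩ := hA
    have h1 := (center (X ⧸ Cfsg.oddCore X)).index_mul_card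
    rw [index_eq_card, Nat.card_congr q.toEquiv, hc, card_alt_seven] at h1
    rw [← h1] at hdvd
    exact h16 ((show 16 ∣ 2520 * 2 by norm_num).trans hdvd)
  rw [Nat.card_congr e.toEquiv, CfsgLib.Classical.card_sl_two_eq] at hdvd
  have hsq : ∀ a : ℕ, ((a : ℕ) ^ 2) % 16 = ((a % 16) ^ 2) % 16 := fun a => Nat.pow_mod a 2 16
  have hmod : Fintype.card F % 8 = 3 ∨ Fintype.card F % 8 = 5 := by
    obtain ⟨i, hi⟩ := hodd
    have hne : ¬ 16 ∣ Fintype.card F ^ 2 - 1 := fun h => h16 ((Dvd.dvd.mul_left h _).trans hdvd)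
    by_contra hcon
    apply hne
    have h1 : Fintype.card F % 16 = 1 ∨ Fintype.card F % 16 = 7 ∨ Fintype.card F % 16 = 9 ∨
        Fintype.card F % 16 = 15 := by omega
    have h2 : Fintype.card F ^ 2 % 16 = 1 := by
      rw [hsq]
      rcases h1 with h | h | h | h <;> rw [h] <;> norm_num
    omega
  -- the normal subgroup
  refine ⟨X ⊔ Cfsg.oddCore G, sup_normal X _,
    inferInstance, ?_, le_sup_right, F, hF, hF', hmod, hq, ⟨?_⟩⟩
  · have h8X : 8 ∣ Nat.card ↥(X ⊔ Cfsg.oddCore G) := by
      refine Dvd.dvd.trans ?_ (card_dvd_of_le (le_sup_left : X ≤ _))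
      refine Dvd.dvd.trans ?_ (Subgroup.card_quotient_dvd_card (Cfsg.oddCore X))
      rw [Nat.card_congr e.toEquiv, CfsgLib.Classical.card_sl_two_eq]
      refine Dvd.dvd.mul_left ?_ _
      have h2 : Fintype.card F ^ 2 % 8 = 1 := by
        rw [Nat.pow_mod]
        rcases hmod with h | h <;> rw [h] <;> norm_num
      omega
    rw [← Nat.not_even_iff_odd]
    intro hev
    apply h16
    rw [← (X ⊔ Cfsg.oddCore G).index_mul_card]
    exact (show 16 = 2 * 8 from rfl) ▸ Nat.mul_dvd_mul (even_iff_two_dvd.1 hev) h8X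
  · haveI hn : ((Cfsg.oddCore G).subgroupOf X).Normal := inferInstance
    have heq : Cfsg.oddCore X = (Cfsg.oddCore G).subgroupOf X := by
      refine le_antisymm ?_ (CfsgLib.Invol.le_oddCore hn ?_)
      · haveI : (Cfsg.oddCore X).Characteristic := CfsgLib.Solvable.pPrimeCore_characteristic 2 X
        haveI : ((Cfsg.oddCore X).map X.subtype).Normal := inferInstance
        have h1 : (Cfsg.oddCore X).map X.subtype ≤ Cfsg.oddCore G :=
          CfsgLib.Invol.le_oddCore inferInstance (by
            rw [card_map_of_injective X.subtype_injective]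
            exact CfsgLib.Invol.odd_card_oddCore _)
        exact fun x hx => mem_subgroupOf.2 (h1 ⟨x, hx, rfl⟩)
      · refine Odd.of_dvd_nat (CfsgLib.Invol.odd_card_oddCore G) ?_
        rw [← card_map_of_injective X.subtype_injective]
        exact card_dvd_of_le (map_le_iff_le_comap.2 le_rfl)
    exact ((QuotientGroup.quotientInfEquivProdNormalQuotient X (Cfsg.oddCore G)).symm.trans
      ((QuotientGroup.quotientMulEquivOfEq heq.symm).trans e))

end CfsgLib.Recog.GW
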