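import Cfsg.Agent.Lib.Recog.GW.AutDihedral
import Cfsg.Agent.Lib.Recog.GenDihedral.Socle
import Cfsg.Agent.Lib.Recog.GenDihedral.SubData
import Cfsg.Agent.Lib.StructC.OutSolvable
import Cfsg.Agent.Lib.Solvable.HallHigman
import Cfsg.Agent.Lib.Solvable.PCore
import Cfsg.Agent.Lib.FT.OddOrder
import Mathlib.GroupTheory.IsPerfect

/-!
The reduction of the dihedral Sylow 2-subgroup theorem to simple groups: the structure of a group
modulo its core, given the simple case as a hypothesis.
-/

set_option autoImplicit false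
set_option linter.unusedSectionVars false
set_option linter.style.haveILetI false
set_option linter.deprecated false

namespace CfsgLib.Recog.GW

open Subgroup CfsgLib.Invol CfsgLib.Recog.GenDihedral
open scoped commutatorElement

universe u

/-- `PSL₂(q)` for odd `q > 3`, or the alternating group of degree 7. -/
def IsGWModel (L : Type*) [Group L] : Prop :=
  (∃ (F : Type) (_ : Field F) (_ : Fintype F), Odd (Fintype.card F) ∧ 3 < Fintype.card F ∧
      Nonempty (L ≃* Matrix.ProjectiveSpecialLinearGroup (Fin 2) F)) ∨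
    Nonempty (L ≃* alternatingGroup (Fin 7))

theorem IsGWModel.congr {L M : Type*} [Group L] [Group M] (e : L ≃* M) (h : IsGWModel M) :
    IsGWModel L := by
  rcases h with ⟨F, i, j, ho, hq, hf⟩ | hf
  · exact Or.inl ⟨F, i, j, ho, hq, hf.map e.trans⟩
  · exact Or.inr (hf.map e.trans)

/-- The simple groups of order at most `N` with dihedral Sylow 2-subgroups are known. -/
def SimpleGW (N : ℕ) : Prop :=
  ∀ (G : Type u) [Group G] [Finite G], IsSimpleGroup G → ¬ IsMulCommutative G → Nat.card G ≤ N →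
    ∀ T : Sylow 2 G, Nonempty (DihData (T : Subgroup G)) → IsGWModel G

/-- The possible groups without odd core with dihedral Sylow 2-subgroups. -/
def GWShape (Q : Type*) [Group Q] : Prop :=
  IsPGroup 2 Q ∨ Nonempty (Q ≃* alternatingGroup (Fin 4)) ∨ Nonempty (Q ≃* Equiv.Perm (Fin 4)) ∨
    ∃ (L : Subgroup Q) (_ : L.Normal), IsSimpleGroup L ∧ centralizer (L : Set Q) = ⊥ ∧
      IsGWModel L ∧ Group.IsSolvable (Q ⧸ L)

variable {Q : Type u} [Group Q] [Finite Q]

/-- Groups of order 12 or 24 with a self-centralising normal subgroup of order four. -/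
theorem alt_or_perm_four (U : Subgroup Q) [U.Normal] (hU : Nat.card U = 4)
    (hC : centralizer (U : Set Q) ≤ U) (hnp : ¬ IsPGroup 2 Q) :
    Nonempty (Q ≃* alternatingGroup (Fin 4)) ∨ Nonempty (Q ≃* Equiv.Perm (Fin 4)) := by
  classical
  have : Fact (Nat.Prime 2) := ⟨Nat.prime_two⟩
  have : Fact (Nat.Prime 3) := ⟨Nat.prime_three⟩
  haveI : Fintype U := Fintype.ofFinite U
  have hcomm : IsMulCommutative U := IsPGroup.isMulCommutative_of_card_eq_prime_sq (p := 2) (by rw [hU]; rfl)
  set c : Q →* MulAut U := MulAut.conjNormal with hcdef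
  have hker : c.ker = U := by
    refine le_antisymm (fun x hx => hC (mem_centralizer_iff.2 fun u hu => ?_)) (fun x hx => ?_)
    · have h1 := congrArg Subtype.val (DFunLike.congr_fun (MonoidHom.mem_ker.1 hx) (⟨u, hu⟩ : U))
      simp only [hcdef, MulAut.conjNormal_apply, MulAut.one_apply] at h1
      exact (mul_inv_eq_iff_eq_mul.1 h1).symm
    · refine MonoidHom.mem_ker.2 (MulEquiv.ext fun u => Subtype.ext ?_)
      simp only [hcdef, MulAut.conjNormal_apply, MulAut.one_apply]
      rw [show x * (u : Q) = u * x from congrArg Subtype.val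
        (hcomm.is_comm.comm (⟨x, hx⟩ : U) u), mul_inv_cancel_right]
  have hc : Fintype.card {x : U // x ≠ 1} = 3 := by
    rw [Fintype.card_subtype_compl, ← Nat.card_eq_fintype_card, hU, Fintype.card_subtype_eq]
  let f : MulAut U →* Equiv.Perm {x : U // x ≠ 1} :=
    MonoidHom.mk' (fun φ => φ.toEquiv.subtypeEquiv fun x => by simp)
      (fun φ ψ => Equiv.ext fun x => rfl)
  have hfi : Function.Injective f := fun φ ψ h => by
    refine MulEquiv.ext fun x => ?_
    by_cases hx : x = 1
    · rw [hx, map_one, map_one]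
    · exact congrArg Subtype.val (Equiv.congr_fun h ⟨x, hx⟩)
  have hperm : Nat.card (Equiv.Perm {x : U // x ≠ 1}) = 6 := by
    rw [Nat.card_perm, Nat.card_eq_fintype_card, hc]; rfl
  have h6 : U.index ∣ 6 := by
    rw [← hker, index_ker]
    exact (Subgroup.card_subgroup_dvd_card _).trans (hperm ▸ Subgroup.card_dvd_of_injective f hfi)
  have hQc : Nat.card Q = 4 * U.index := by rw [← U.card_mul_index, hU]
  have h3 : 3 ∣ U.index := by
    by_contra hc
    have hle := Nat.le_of_dvd (by norm_num) h6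
    apply hnp
    rcases (show U.index = 1 ∨ U.index = 2 by interval_cases U.index <;> omega) with h | h
    · exact IsPGroup.of_card (p := 2) (n := 2) (by rw [hQc, h]; rfl)
    · exact IsPGroup.of_card (p := 2) (n := 3) (by rw [hQc, h]; rfl)
  let P : Sylow 3 Q := default
  have hU3 : ¬ 3 ∣ Nat.card U := by rw [hU]; norm_num
  obtain ⟨g, hgP, hg⟩ : ∃ g ∈ (P : Subgroup Q), orderOf g = 3 := by
    have hP : 3 ∣ Nat.card (P : Subgroup Q) :=
      Sylow.dvd_card_of_dvd_card P (hQc ▸ h3.mul_left 4)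
    obtain ⟨g, hg⟩ := exists_prime_orderOf_dvd_card' 3 hP
    exact ⟨g, g.2, (Subgroup.orderOf_coe g).trans hg⟩
  set N := normalizer ((P : Subgroup Q) : Set Q) with hNdef
  have hNU : N ⊓ U = ⊥ := by
    rw [eq_bot_iff]
    rintro u ⟨huN, huU⟩
    change u ∈ N at huN
    change u ∈ U at huU
    rw [mem_bot]
    by_contra hu1
    have hgu : ⁅u, g⁆ = 1 := by
      have h1 : ⁅u, g⁆ ∈ (P : Subgroup Q) ⊓ U := by
        refine Subgroup.mem_inf.2 ⟨mul_mem ((mem_normalizer_iff.1 huN g).1 hgP) (inv_mem hgP), ?_⟩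
        have := mul_mem huU ((inferInstance : U.Normal).conj_mem _ (inv_mem huU) g)
        rwa [← mul_assoc, ← mul_assoc, ← commutatorElement_def] at this
      have h2 : Nat.Coprime (Nat.card (P : Subgroup Q)) (Nat.card U) := by
        obtain ⟨n, hn⟩ := P.2.exists_card_eq
        rw [hn]
        exact (Nat.prime_three.coprime_iff_not_dvd.2 hU3).pow_left n
      rwa [inf_eq_bot_of_coprime h2, mem_bot] at h1
    rw [commutatorElement_eq_one_iff_mul_comm] at hgu
    have hfix : c g ⟨u, huU⟩ = ⟨u, huU⟩ := Subtype.ext (by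
      simp only [hcdef, MulAut.conjNormal_apply]
      rw [← hgu, mul_inv_cancel_right])
    have hg1 : c g ≠ 1 := fun h => by
      have hgU : g ∈ U := hker ▸ MonoidHom.mem_ker.2 h
      exact hU3 (hg ▸ Subgroup.orderOf_dvd_natCard U hgU)
    apply hg1
    apply hfi
    rw [map_one]
    set σ := f (c g)
    have hσ3 : σ ^ 3 = 1 := by
      rw [← map_pow, ← map_pow, ← hg, pow_orderOf_eq_one, map_one, map_one]
    have hσfix : σ ⟨⟨u, huU⟩, fun h => hu1 (congrArg Subtype.val h)⟩ =
        ⟨⟨u, huU⟩, fun h => hu1 (congrArg Subtype.val h)⟩ := Subtype.ext hfix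
    let e := Fintype.equivFinOfCardEq hc
    have key : ∀ τ : Equiv.Perm (Fin 3), ∀ i, τ i = i → τ ^ 3 = 1 → τ = 1 := by decide
    have hτ := key (e.permCongrHom σ) _ (show e.permCongrHom σ (e _) = e _ by
      simp only [Equiv.permCongrHom, Equiv.permCongr_apply, MulEquiv.coe_mk, Equiv.symm_apply_apply]
      rw [hσfix]) (by rw [← map_pow, hσ3, map_one])
    exact e.permCongrHom.injective (hτ.trans (map_one _).symm)
  have hUne : U ≠ ⊥ := fun h => by rw [h, card_bot] at hU; omega
  have hidx : N.index = 4 := by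
    have h1 : Nat.card (Sylow 3 Q) ≡ 1 [MOD 3] := card_sylow_modEq_one 3 Q
    have h2 : Nat.card (Sylow 3 Q) = N.index := Sylow.card_eq_index_normalizer P
    have h3' : N.index ∣ (P : Subgroup Q).index := Subgroup.index_dvd_of_le le_normalizer
    have h4 : N.index ≠ 1 := fun h => hUne (by rw [← hNU, index_eq_one.1 h, top_inf_eq])
    have h5 : (P : Subgroup Q).index ∣ 8 := by
      have hd : (P : Subgroup Q).index ∣ 24 :=
        (Subgroup.index_dvd_card _).trans (hQc ▸ (mul_dvd_mul_left 4 h6))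
      exact (Nat.Coprime.dvd_of_dvd_mul_left
        ((Nat.prime_three.coprime_iff_not_dvd.2 P.not_dvd_index).symm) (show _ ∣ 3 * 8 from hd))
    have h7 : N.index ≤ 8 := Nat.le_of_dvd (by norm_num) (h3'.trans h5)
    rw [Nat.ModEq, h2] at h1
    have h8 := h3'.trans h5
    interval_cases hN : N.index <;> omega
  have hinj : Function.Injective (MulAction.toPermHom Q (Q ⧸ N)) := by
    rw [← MonoidHom.ker_eq_bot_iff, ← Subgroup.normalCore_eq_ker]
    have hK : N.normalCore ⊓ U = ⊥ := le_bot_iff.1 (hNU ▸ inf_le_inf_right U N.normalCore_le)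
    have hKU : N.normalCore ≤ U := fun x hx => hC (mem_centralizer_iff.2 fun u hu =>
      (commute_of_normal_of_disjoint N.normalCore U inferInstance inferInstance
        (disjoint_iff.2 hK) x u hx hu).eq.symm)
    rwa [inf_eq_left.2 hKU] at hK
  haveI : Fintype (Q ⧸ N) := Fintype.ofFinite _
  let e4 : (Q ⧸ N) ≃ Fin 4 := Fintype.equivFinOfCardEq (by
    rw [← Nat.card_eq_fintype_card, ← Subgroup.index_eq_card, hidx])
  let ι : Q →* Equiv.Perm (Fin 4) := e4.permCongrHom.toMonoidHom.comp (MulAction.toPermHom Q (Q ⧸ N))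
  have hι : Function.Injective ι := e4.permCongrHom.injective.comp hinj
  have hS4 : Nat.card (Equiv.Perm (Fin 4)) = 24 := by
    rw [Nat.card_perm, Nat.card_fin]; rfl
  have hrange : Nat.card ι.range = 4 * U.index := by
    rw [← hQc]; exact (Nat.card_congr (MonoidHom.ofInjective hι).toEquiv).symm
  have h36 : U.index = 3 ∨ U.index = 6 := by
    have := Nat.le_of_dvd (by norm_num) h6
    interval_cases U.index <;> omega
  rcases h36 with h | h
  · have hi : ι.range.index = 2 := by
      have := ι.range.card_mul_index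
      rw [hrange, hS4, h] at this
      omega
    exact Or.inl ⟨(MonoidHom.ofInjective hι).trans
      (MulEquiv.subgroupCongr (Equiv.Perm.eq_alternatingGroup_of_index_eq_two hi))⟩
  · have htop : ι.range = ⊤ := Subgroup.eq_top_of_card_eq _ (by rw [hrange, h, hS4])
    exact Or.inr ⟨(MonoidHom.ofInjective hι).trans
      ((MulEquiv.subgroupCongr htop).trans Subgroup.topEquiv)⟩

/-- The solvable groups. -/
theorem shape_of_solvable [Group.IsSolvable Q] (hO : Cfsg.oddCore Q = ⊥) (T : Sylow 2 Q)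
    (E : DihData (T : Subgroup Q)) : IsPGroup 2 Q ∨ Nonempty (Q ≃* alternatingGroup (Fin 4)) ∨
      Nonempty (Q ≃* Equiv.Perm (Fin 4)) := by
  have : Fact (Nat.Prime 2) := ⟨Nat.prime_two⟩
  refine or_iff_not_imp_left.2 fun hnp => ?_
  have : (Cfsg.pCore 2 Q).Normal := CfsgLib.Solvable.pCore_normal 2 Q
  set U := Cfsg.pCore 2 Q with hUdef
  have hC : centralizer (U : Set Q) ≤ U := CfsgLib.Solvable.centralizer_pCore_le 2 hO
  have hUT : U ≤ (T : Subgroup Q) := CfsgLib.Solvable.pCore_le_sylow T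
  let e := subgroupOfEquivOfLe hUT
  rcases mulAut_cases E (U.subgroupOf (T : Subgroup Q)) with h | h
  · refine absurd (fun x => ?_) hnp
    have hA : IsPGroup 2 (MulAut U) := h.of_equiv (MulAut.congr e)
    obtain ⟨k, hk⟩ := hA (MulAut.conjNormal x)
    have hx : x ^ 2 ^ k ∈ U := hC (mem_centralizer_iff.2 fun u hu => by
      rw [← map_pow] at hk
      have h1 := congrArg Subtype.val (DFunLike.congr_fun hk (⟨u, hu⟩ : U))
      simp only [MulAut.conjNormal_apply, MulAut.one_apply] at h1
      exact (mul_inv_eq_iff_eq_mul.1 h1).symm)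
    obtain ⟨l, hl⟩ := CfsgLib.Solvable.pCore_isPGroup (G := Q) 2 ⟨_, hx⟩
    refine ⟨k + l, ?_⟩
    rw [pow_add, pow_mul]
    exact congrArg Subtype.val hl
  · exact alt_or_perm_four U (by rw [← h, Nat.card_congr e.toEquiv]) hC hnp

/-- The non-solvable groups. -/
theorem exists_socle_model (hGW : SimpleGW.{u} (Nat.card Q)) (hns : ¬ Group.IsSolvable Q)
    (hO : Cfsg.oddCore Q = ⊥) (T : Sylow 2 Q) (E : DihData (T : Subgroup Q)) :
    ∃ (L : Subgroup Q) (_ : L.Normal), IsSimpleGroup L ∧ centralizer (L : Set Q) = ⊥ ∧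
      IsGWModel L ∧ Group.IsSolvable (Q ⧸ L) := by
  have : Fact (Nat.Prime 2) := ⟨Nat.prime_two⟩
  have hO' : ∀ N : Subgroup Q, N.Normal → Odd (Nat.card N) → N = ⊥ := fun N hN ho =>
    le_bot_iff.1 (hO ▸ CfsgLib.Solvable.le_pPrimeCore hN (Nat.coprime_two_right.2 ho))
  obtain ⟨L, hLn, hLs, hLna, hC⟩ := exists_simple_socle hns hO' T E
  have hLns : ¬ Group.IsSolvable L := fun h => hLna ⟨⟨IsSimpleGroup.comm_iff_isSolvable.2 h⟩⟩
  obtain ⟨P, D, -, -, -, -, -, -⟩ := exists_subData T E L hLns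
  have hOL : ∀ N : Subgroup L, N.Normal → Odd (Nat.card N) → N = ⊥ := fun N hN ho =>
    hN.eq_bot_or_eq_top.resolve_right fun h => hLns (CfsgLib.FT.odd_order_solvable
      (by rwa [h, card_top] at ho))
  haveI := CfsgLib.StructC.OutSolvable.isSolvable_out hOL
    (fun H _ _ h => CfsgLib.FT.odd_order_solvable h) P (isSolvable_mulAut D)
  refine ⟨L, hLn, hLs, hC, hGW L hLs hLna (Subgroup.card_le_card_group L) P ⟨D⟩, ?_⟩
  let ψ : Q →* Cfsg.Out L := (QuotientGroup.mk' (Cfsg.Inn L)).comp MulAut.conjNormal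
  have hker : ψ.ker = L := by
    refine le_antisymm (fun x hx => ?_) (fun x hx => ?_)
    · obtain ⟨l, hl⟩ : ∃ l : L, MulAut.conj l = MulAut.conjNormal x :=
        MonoidHom.mem_range.1 ((QuotientGroup.eq_one_iff _).1 (MonoidHom.mem_ker.1 hx))
      have hz : (l : Q)⁻¹ * x ∈ centralizer (L : Set Q) := mem_centralizer_iff.2 fun u hu => by
        have h1 := congrArg Subtype.val (DFunLike.congr_fun hl (⟨u, hu⟩ : L))
        simp only [MulAut.conjNormal_apply, MulAut.conj_apply, Subgroup.coe_mul, Subgroup.coe_inv] at h1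
        have h2 : u * (l : Q)⁻¹ = (l : Q)⁻¹ * (x * u * x⁻¹) := by rw [← h1]; group
        rw [← mul_assoc, h2]; group
      rw [hC, mem_bot, inv_mul_eq_one] at hz
      exact hz ▸ l.2
    · refine MonoidHom.mem_ker.2 ((QuotientGroup.eq_one_iff _).2 (MonoidHom.mem_range.2 ⟨⟨x, hx⟩, ?_⟩))
      ext u
      simp [MulAut.conjNormal_apply]
  let e : Q ⧸ L ≃* ψ.range :=
    (QuotientGroup.quotientMulEquivOfEq hker.symm).trans (QuotientGroup.quotientKerEquivRange ψ)
  exact solvable_of_solvable_injective (f := e.toMonoidHom) e.injective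

/-- Groups without odd core. -/
theorem shape_of_oddCore_eq_bot (hGW : SimpleGW.{u} (Nat.card Q)) (hO : Cfsg.oddCore Q = ⊥)
    (T : Sylow 2 Q) (E : DihData (T : Subgroup Q)) : GWShape Q := by
  by_cases hs : Group.IsSolvable Q
  · rcases shape_of_solvable hO T E with h | h | h
    · exact Or.inl h
    · exact Or.inr (Or.inl h)
    · exact Or.inr (Or.inr (Or.inl h))
  · exact Or.inr (Or.inr (Or.inr (exists_socle_model hGW hs hO T E)))

theorem SimpleGW.mono {M N : ℕ} (h : SimpleGW.{u} N) (hMN : M ≤ N) : SimpleGW.{u} M :=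
  fun G _ _ hs hna hc T hT => h G hs hna (hc.trans hMN) T hT

variable {X : Type u} [Group X] [Finite X]

/-- The image of a Sylow 2-subgroup modulo the core. -/
theorem quotient_sylow (S : Sylow 2 X) :
    ∃ T : Sylow 2 (X ⧸ Cfsg.oddCore X),
      Nonempty ((S : Subgroup X) ≃* (T : Subgroup (X ⧸ Cfsg.oddCore X))) := by
  have : Fact (Nat.Prime 2) := ⟨Nat.prime_two⟩
  set O := Cfsg.oddCore X
  refine ⟨S.mapSurjective (QuotientGroup.mk'_surjective O), ⟨MulEquiv.ofBijective
    ((QuotientGroup.mk' O).subgroupMap (S : Subgroup X)) ⟨?_, MonoidHom.subgroupMap_surjective _ _⟩⟩⟩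
  refine (injective_iff_map_eq_one
    ((QuotientGroup.mk' O).subgroupMap (S : Subgroup X))).2 fun a ha => ?_
  have haO : (a : X) ∈ O := (QuotientGroup.eq_one_iff _).1 (congrArg Subtype.val ha)
  obtain ⟨k, hk⟩ := S.2.exists_orderOf_dvd_pow a
  refine Subtype.ext (orderOf_eq_one_iff.1 (Nat.eq_one_of_dvd_coprimes
    ((CfsgLib.Solvable.pPrimeCore_coprime (G := X) 2).pow_right k)
    (Subgroup.orderOf_dvd_natCard O haO) ?_))
  rwa [Subgroup.orderOf_coe]

/-- **The structure of a group with dihedral Sylow 2-subgroups modulo its core.** -/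
theorem quotient_shape (hGW : SimpleGW.{u} (Nat.card X)) (S : Sylow 2 X) (n : ℕ) (hn : 2 ≤ n)
    (hS : Nonempty ((S : Subgroup X) ≃* DihedralGroup n)) :
    GWShape (X ⧸ Cfsg.oddCore X) := by
  obtain ⟨T, ⟨e⟩⟩ := quotient_sylow S
  obtain ⟨f⟩ := hS
  obtain ⟨E⟩ := exists_dihData T.2 hn (e.symm.trans f)
  exact shape_of_oddCore_eq_bot
    (hGW.mono (Nat.card_le_card_of_surjective _ (QuotientGroup.mk'_surjective _)))
    (CfsgLib.Solvable.pPrimeCore_quotient_eq_bot 2) T E

/-- **Perfect groups with dihedral Sylow 2-subgroups**, from the simple case. -/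
theorem perfect_mod_core [Group.IsPerfect X] (hGW : SimpleGW.{u} (Nat.card X)) (S : Sylow 2 X)
    (n : ℕ) (hn : 2 ≤ n) (hS : Nonempty ((S : Subgroup X) ≃* DihedralGroup n)) :
    (∃ (F : Type) (_ : Field F) (_ : Fintype F), Odd (Fintype.card F) ∧ 3 < Fintype.card F ∧
        Nonempty (X ⧸ Cfsg.oddCore X ≃* Matrix.ProjectiveSpecialLinearGroup (Fin 2) F)) ∨
      Nonempty (X ⧸ Cfsg.oddCore X ≃* alternatingGroup (Fin 7)) := by
  obtain ⟨T, ⟨e⟩⟩ := quotient_sylow S
  obtain ⟨f⟩ := hS
  set Y := X ⧸ Cfsg.oddCore X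
  obtain ⟨E⟩ := exists_dihData T.2 hn (e.symm.trans f)
  haveI : Nontrivial Y := by
    by_contra hc
    rw [not_nontrivial_iff_subsingleton] at hc
    have h1 := E.card_eq
    have h2 : Nat.card (T : Subgroup Y) = 1 := Nat.card_of_subsingleton (1 : (T : Subgroup Y))
    have := E.h_pos
    omega
  haveI hperf : Group.IsPerfect Y := Group.IsPerfect.instQuotientSubgroup
  have hns : ¬ Group.IsSolvable Y := Group.IsPerfect.not_isSolvable Y
  obtain ⟨L, hLn, -, -, hM, hsol⟩ := exists_socle_model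
    (hGW.mono (Nat.card_le_card_of_surjective _ (QuotientGroup.mk'_surjective _))) hns
    (CfsgLib.Solvable.pPrimeCore_quotient_eq_bot 2) T E
  have htop : L = ⊤ := by
    by_contra hne
    haveI := hsol
    haveI : Nontrivial (Y ⧸ L) := QuotientGroup.nontrivial_iff.2 hne
    exact Group.IsPerfect.not_isSolvable (Y ⧸ L) hsol
  exact hM.congr (((MulEquiv.subgroupCongr htop).trans Subgroup.topEquiv).symm)

end CfsgLib.Recog.GW
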