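import Cfsg.Agent.Lib.Recog.GW.PElemRankOne
import Cfsg.Agent.Lib.Recog.GW.QuaternionSylow
import Cfsg.Agent.Lib.Recog.GW.Reduce
import Cfsg.Agent.Lib.Geom.Solubilizer
import Cfsg.Agent.S2119

/-!
Groups generated by 2-elements with quaternion Sylow 2-subgroups, and the consumer for groups with a
strongly embedded subgroup of rank one, from the classification of simple groups with dihedral
Sylow 2-subgroups.
-/

set_option autoImplicit false
set_option linter.unusedSectionVars false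
set_option linter.style.haveILetI false
set_option linter.deprecated false

namespace CfsgLib.Recog.GW.PElem

open Subgroup CfsgLib.Invol CfsgLib.Recog.GenDihedral

universe u

/-- A group with a normal subgroup with trivial centraliser lies between the inner and all
automorphisms of the subgroup. -/
theorem exists_aut_range {Y P : Type*} [Group Y] [Group P] (L : Subgroup Y) [L.Normal]
    (hC : centralizer (L : Set Y) = ⊥) (e : L ≃* P) :
    ∃ K : Subgroup (MulAut P), (MulAut.conj : P →* MulAut P).range ≤ K ∧ Nonempty (Y ≃* K) := by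
  let φ : Y →* MulAut P := (MulAut.congr e).toMonoidHom.comp MulAut.conjNormal
  have hφ : ∀ (y : Y) (l : L), φ y (e l) = e (MulAut.conjNormal y l) := fun y l => by
    simp [φ, MulAut.congr]
  have hinj : Function.Injective φ := by
    refine (injective_iff_map_eq_one φ).2 fun y hy => ?_
    rw [← mem_bot, ← hC, mem_centralizer_iff]
    intro l hl
    have h := hφ y ⟨l, hl⟩
    rw [hy, MulAut.one_apply] at h
    have h' : y * l * y⁻¹ = l := ((MulAut.conjNormal_apply y (⟨l, hl⟩ : L)).symm.trans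
      (congrArg Subtype.val (e.injective h).symm))
    exact (mul_inv_eq_iff_eq_mul.1 h').symm
  refine ⟨φ.range, ?_, ⟨MonoidHom.ofInjective hinj⟩⟩
  rintro _ ⟨x, rfl⟩
  refine ⟨((e.symm x : L) : Y), MulEquiv.ext fun w => ?_⟩
  obtain ⟨l, rfl⟩ := e.surjective w
  obtain ⟨m, rfl⟩ := e.surjective x
  rw [hφ, MulAut.conj_apply, e.symm_apply_apply, ← map_inv, ← map_mul, ← map_mul]
  congr 1

theorem altFour_center : ∀ g : alternatingGroup (Fin 4), (∀ h, h * g = g * h) → g = 1 := by
  decide +kernel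

theorem permFour_centraliser :
    ∀ g : Equiv.Perm (Fin 4), (∀ h, Equiv.Perm.sign h = 1 → h * g = g * h) → g = 1 := by
  decide +kernel

/-- The almost simple shape in the three soluble and the linear cases. -/
def AutShape (Y : Type*) [Group Y] : Prop :=
  ∃ (F : Type) (_ : Field F) (_ : Fintype F), Odd (Fintype.card F) ∧
    ∃ K : Subgroup (MulAut (Matrix.ProjectiveSpecialLinearGroup (Fin 2) F)),
      (MulAut.conj : Matrix.ProjectiveSpecialLinearGroup (Fin 2) F →*
        MulAut (Matrix.ProjectiveSpecialLinearGroup (Fin 2) F)).range ≤ K ∧ Nonempty (Y ≃* K)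

theorem autShape_altFour {Y : Type*} [Group Y] (L : Subgroup Y) [L.Normal]
    (hC : centralizer (L : Set Y) = ⊥) (e : L ≃* alternatingGroup (Fin 4)) : AutShape Y := by
  haveI : Fact (Nat.Prime 3) := ⟨Nat.prime_three⟩
  obtain ⟨f⟩ := CfsgLib.Geom.Moebius.psl_three_equiv (F := ZMod 3) (ZMod.card 3)
  refine ⟨ZMod 3, inferInstance, inferInstance, by rw [ZMod.card]; exact ⟨1, rfl⟩, ?_⟩
  exact exists_aut_range L hC (e.trans f.symm)

theorem autShape_of_altFour {Y : Type*} [Group Y] (e : Y ≃* alternatingGroup (Fin 4)) :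
    AutShape Y := by
  refine autShape_altFour (⊤ : Subgroup Y) ((eq_bot_iff_forall _).2 fun y hy => ?_)
    (Subgroup.topEquiv.trans e)
  refine e.map_eq_one_iff.1 (altFour_center _ fun h => ?_)
  obtain ⟨w, rfl⟩ := e.surjective h
  rw [← map_mul, ← map_mul, mem_centralizer_iff.1 hy w (mem_top w)]

theorem autShape_of_permFour {Y : Type*} [Group Y] (e : Y ≃* Equiv.Perm (Fin 4)) : AutShape Y := by
  set L := (alternatingGroup (Fin 4)).comap e.toMonoidHom with hL
  refine autShape_altFour L ((eq_bot_iff_forall _).2 fun y hy => ?_)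
    ((e.subgroupMap L).trans (MulEquiv.subgroupCongr (map_comap_eq_self_of_surjective e.surjective _)))
  refine e.map_eq_one_iff.1 (permFour_centraliser _ fun h hh => ?_)
  obtain ⟨w, rfl⟩ := e.surjective h
  rw [← map_mul, ← map_mul, mem_centralizer_iff.1 hy w (Equiv.Perm.mem_alternatingGroup.2 hh)]

/-- An almost simple group over `A₇` with dihedral Sylow 2-subgroups is `A₇`. -/
theorem equiv_alt_seven {Y : Type u} [Group Y] [Finite Y] (T : Sylow 2 Y)
    (E : DihData (T : Subgroup Y)) (L : Subgroup Y) [L.Normal] (hC : centralizer (L : Set Y) = ⊥)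
    (e : L ≃* alternatingGroup (Fin 7)) : Nonempty (Y ≃* alternatingGroup (Fin 7)) := by
  obtain ⟨K, hK, ⟨f⟩⟩ := exists_aut_range L hC e
  let c : Equiv.Perm (Fin 7) →* MulAut (alternatingGroup (Fin 7)) := MulAut.conjNormal
  let d : Equiv.Perm (Fin 7) ≃* MulAut (alternatingGroup (Fin 7)) :=
    MulEquiv.ofBijective c (Cfsg.Agent.S2119.result 7 (by norm_num) (by norm_num))
  set M := K.comap d.toMonoidHom with hM
  let f' : Y ≃* M := f.trans ((MulEquiv.subgroupCongr (map_comap_eq_self_of_surjective d.surjective K).symm).trans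
    (d.subgroupMap M).symm)
  have hAM : alternatingGroup (Fin 7) ≤ M := fun σ hσ => by
    refine hK ⟨⟨σ, hσ⟩, MulEquiv.ext fun x => Subtype.ext ?_⟩
    change σ * (x : Equiv.Perm (Fin 7)) * σ⁻¹ = _
    exact (MulAut.conjNormal_apply σ x).symm
  by_cases hsgn : ∀ σ ∈ M, Equiv.Perm.sign σ = 1
  · have : M = alternatingGroup (Fin 7) :=
      le_antisymm (fun σ hσ => Equiv.Perm.mem_alternatingGroup.2 (hsgn σ hσ)) hAM
    exact ⟨f'.trans (MulEquiv.subgroupCongr this)⟩
  · exfalso
    push Not at hsgn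
    obtain ⟨σ, hσ, hs⟩ := hsgn
    have hall : ∀ τ, τ ∈ M := fun τ => by
      rcases Int.units_eq_one_or (Equiv.Perm.sign τ) with h | h
      · exact hAM (Equiv.Perm.mem_alternatingGroup.2 h)
      · have h1 : τ * σ ∈ M := hAM (Equiv.Perm.mem_alternatingGroup.2 (by
          rw [map_mul, h, (Int.units_eq_one_or _).resolve_left hs]; rfl))
        simpa using M.mul_mem h1 (M.inv_mem hσ)
    let g : Equiv.Perm (Fin 7) →* Y := f'.symm.toMonoidHom.comp ((MonoidHom.id _).codRestrict M hall)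
    have hg : Function.Injective g := fun a b h => congrArg Subtype.val (f'.symm.injective h)
    let a : Equiv.Perm (Fin 7) := Equiv.swap 0 1
    let b : Equiv.Perm (Fin 7) := Equiv.swap 2 3
    let w : Equiv.Perm (Fin 7) := Equiv.swap 4 5
    have ho : ∀ x : Equiv.Perm (Fin 7), x * x = 1 → x ≠ 1 → orderOf (g x) = 2 := fun x h1 h2 => by
      rw [orderOf_injective g hg]
      exact orderOf_eq_prime (by rw [pow_two, h1]) h2
    exact no_eight T E (ho a (by decide) (by decide)) (ho b (by decide) (by decide))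
      (ho w (by decide) (by decide)) ((show Commute a b from (by decide : a * b = b * a)).map g)
      ((show Commute a w from (by decide : a * w = w * a)).map g)
      ((show Commute b w from (by decide : b * w = w * b)).map g)
      (hg.ne (by decide)) (hg.ne (by decide)) (hg.ne (by decide))
      (by rw [← map_mul]; exact hg.ne (by decide))

variable {G : Type u} [Group G] [Finite G]

/-- The quaternion case. -/
theorem quaternion_case (hGW : SimpleGW.{u} (Nat.card G)) (S : Sylow 2 G) (k : ℕ)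
    (e : ↥(S : Subgroup G) ≃* QuaternionGroup (2 ^ (k + 1))) :
    (S : Subgroup G) ⊔ Cfsg.pPrimeCore 2 G = ⊤ ∨
      ∃ (N : Subgroup G) (_ : N.Normal), N = Cfsg.omegaOne 2 (S : Subgroup G) ⊔ Cfsg.pPrimeCore 2 G ∧
        (AutShape (G ⧸ N) ∨ Nonempty (G ⧸ N ≃* alternatingGroup (Fin 7))) := by
  classical
  haveI : Fact (Nat.Prime 2) := ⟨Nat.prime_two⟩
  haveI : NeZero (2 ^ (k + 1)) := ⟨by positivity⟩
  haveI hOn : (Cfsg.oddCore G).Normal := CfsgLib.Solvable.pPrimeCore_normal 2 G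
  set O := Cfsg.oddCore G with hOdef
  set q := QuotientGroup.mk' O with hq
  have hqs : Function.Surjective q := QuotientGroup.mk'_surjective O
  have hOK : Cfsg.oddCore (G ⧸ O) = ⊥ := CfsgLib.Fusion.oddCore_quotient_oddCore
  obtain ⟨T, ⟨eT⟩⟩ := quotient_sylow S
  have hT2 : 2 ∣ Nat.card (G ⧸ O) := by
    refine dvd_trans ?_ T.card_subgroup_dvd_card
    rw [← Nat.card_congr (e.symm.trans eT).toEquiv, Nat.card_eq_fintype_card, QuaternionGroup.card]
    exact ⟨2 * 2 ^ (k + 1), by ring⟩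
  have hklein : ∀ E : Subgroup (G ⧸ O), ¬ IsKleinFour E := not_klein fun T' => by
    obtain ⟨g, hg⟩ := MulAction.exists_smul_eq (G ⧸ O) T T'
    exact ⟨k, ⟨(hg ▸ Sylow.equivSMul T g).symm.trans (eT.symm.trans e)⟩⟩
  obtain ⟨z, hzc, hz⟩ := CfsgLib.Invol.centralInvol (G ⧸ O) (even_iff_two_dvd.2 hT2) hklein
    fun N hN hodd => le_bot_iff.1 (hOK ▸ CfsgLib.Invol.le_oddCore hN hodd)
  set Z := zpowers z with hZdef
  have hZc : Z ≤ center (G ⧸ O) := zpowers_le.2 hzc
  haveI hZn : Z.Normal := ⟨fun a ha g => by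
    rw [mem_center_iff.1 (hZc ha) g, mul_inv_cancel_right]; exact ha⟩
  let f : G ⧸ O →* (G ⧸ O) ⧸ Z := QuotientGroup.mk' Z
  have hf : Function.Surjective f := QuotientGroup.mk'_surjective Z
  have hfk : f.ker = Z := QuotientGroup.ker_mk' Z
  have hinv : ∀ x : G ⧸ O, x * x = 1 → x ∈ Z := fun x hx => by
    rcases eq_or_ne x 1 with rfl | h
    · exact one_mem _
    · rw [CfsgLib.Invol.rankOne_eq_of_commute hklein (orderOf_eq_prime (by rw [pow_two, hx]) h) hz
        (mem_center_iff.1 hzc x)]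
      exact mem_zpowers z
  have hcZ : Nat.card Z = 2 := by rw [hZdef, Nat.card_zpowers, hz]
  have hker : ∀ x, f x = 1 ↔ x ∈ center (G ⧸ O) ∧ x * x = 1 := fun x => by
    rw [← MonoidHom.mem_ker, hfk]
    refine ⟨fun hx => ⟨hZc hx, ?_⟩, fun h => hinv x h.2⟩
    have h2' := pow_card_eq_one' (G := Z) (x := ⟨x, hx⟩)
    rw [hcZ, pow_two] at h2'
    exact congrArg Subtype.val h2'
  obtain ⟨T₁, ⟨eT₁⟩⟩ := sylow_dihedral f hf hker T (eT.symm.trans e)
    fun x _ hx => hZc (hinv x hx)
  have hOY : Cfsg.oddCore ((G ⧸ O) ⧸ Z) = ⊥ := by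
    haveI : (Cfsg.oddCore ((G ⧸ O) ⧸ Z)).Normal := CfsgLib.Solvable.pPrimeCore_normal 2 _
    have hle : (Cfsg.oddCore ((G ⧸ O) ⧸ Z)).comap f ≤ Z := by
      refine CfsgLib.Fusion.le_of_central_of_odd hOK inferInstance ?_ hZc ?_
      · intro x hx
        rw [mem_comap, show f x = 1 from (QuotientGroup.eq_one_iff x).2 hx]
        exact one_mem _
      · have hb : Z.relIndex ((Cfsg.oddCore ((G ⧸ O) ⧸ Z)).comap f) =
            ((⊥ : Subgroup ((G ⧸ O) ⧸ Z)).comap f).relIndex
              ((Cfsg.oddCore ((G ⧸ O) ⧸ Z)).comap f) := by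
          congr 1
          rw [MonoidHom.comap_bot, hfk]
        rw [hb, relIndex_comap, map_comap_eq_self_of_surjective hf, relIndex_bot_left]
        exact CfsgLib.Invol.odd_card_oddCore _
    refine (eq_bot_iff_forall _).2 fun y hy => ?_
    obtain ⟨x, rfl⟩ := hf y
    exact (QuotientGroup.eq_one_iff x).2 (hle hy)
  obtain ⟨E⟩ := exists_dihData T₁.2 (Nat.le_self_pow (by omega) 2) eT₁
  have hsh : GWShape ((G ⧸ O) ⧸ Z) := shape_of_oddCore_eq_bot (hGW.mono
    (Nat.card_le_card_of_surjective (f.comp q) (hf.comp hqs))) hOY T₁ E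
  rcases hsh with hp | hrest
  · left
    have hK2 : IsPGroup 2 (G ⧸ O) := by
      obtain ⟨n, hn⟩ := hp.exists_card_eq
      refine IsPGroup.of_card (n := n + 1) ?_
      rw [← Z.card_mul_index, hcZ, index_eq_card, hn, pow_succ]
      ring
    let T₂ : Sylow 2 (G ⧸ O) := S.mapSurjective hqs
    have htop : ((T₂ : Subgroup (G ⧸ O))) = ⊤ :=
      (T₂.is_maximal' (hK2.to_subgroup ⊤) le_top).symm
    have h1 : ((S : Subgroup G) ⊔ O).map q = ⊤ := by
      rw [Subgroup.map_sup, QuotientGroup.map_mk'_self, sup_bot_eq, ← htop]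
      rfl
    have h2 := Subgroup.comap_map_eq_self
      (show q.ker ≤ (S : Subgroup G) ⊔ O by rw [hq, QuotientGroup.ker_mk']; exact le_sup_right)
    rw [h1, Subgroup.comap_top] at h2
    exact h2.symm
  · right
    set N := Cfsg.omegaOne 2 (S : Subgroup G) ⊔ Cfsg.pPrimeCore 2 G with hN
    have hNk : N = (f.comp q).ker := by
      have hk : (f.comp q).ker = Z.comap q := by rw [← MonoidHom.comap_ker, hfk]
      rw [hk]
      refine le_antisymm (sup_le ((closure_le _).2 fun x hx => ?_) ?_) fun x hx => ?_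
      · exact hinv (q x) (by rw [← map_mul, ← pow_two, hx.2, map_one])
      · intro x hx
        rw [mem_comap, show q x = 1 from (QuotientGroup.eq_one_iff x).2 hx]
        exact one_mem _
      · obtain ⟨s, hs, hsz⟩ : ∃ s ∈ (S : Subgroup G), q s = z := by
          obtain ⟨T', hT'⟩ := (isPGroup_zpowers_of_invol hz).exists_le_sylow
          obtain ⟨g, hg⟩ := MulAction.exists_smul_eq (G ⧸ O) (S.mapSurjective hqs) T'
          have h1 : z ∈ ((g • S.mapSurjective hqs : Sylow 2 (G ⧸ O)) : Subgroup (G ⧸ O)) :=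
            hg ▸ hT' (mem_zpowers z)
          rw [Sylow.coe_subgroup_smul] at h1
          obtain ⟨w, ⟨s, hs, rfl⟩, hw⟩ := h1
          refine ⟨s, hs, ?_⟩
          have hw' : g * q s * g⁻¹ = z := hw
          have : q s = g⁻¹ * z * g := by rw [← hw']; group
          rw [this, mul_assoc, ← mem_center_iff.1 hzc g, inv_mul_cancel_left]
        have hs2 : s ^ 2 = 1 := by
          have hO2 : s ^ 2 ∈ O := (QuotientGroup.eq_one_iff _).1 (by
            show q (s ^ 2) = 1
            rw [map_pow, hsz, ← hz, pow_orderOf_eq_one])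
          obtain ⟨j, hj⟩ := S.2.exists_orderOf_dvd_pow (⟨s ^ 2, pow_mem hs 2⟩ : (S : Subgroup G))
          rw [Subgroup.orderOf_mk] at hj
          exact orderOf_eq_one_iff.1 (Nat.eq_one_of_dvd_coprimes
            ((CfsgLib.Solvable.pPrimeCore_coprime (G := G) 2).pow_right j)
            (Subgroup.orderOf_dvd_natCard O hO2) hj)
        obtain ⟨i, hi⟩ := mem_zpowers_iff.1 (mem_comap.1 hx)
        have hmem : (s ^ i)⁻¹ * x ∈ O := (QuotientGroup.eq_one_iff _).1 (by
          show q ((s ^ i)⁻¹ * x) = 1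
          rw [map_mul, map_inv, map_zpow, hsz, hi, inv_mul_cancel])
        have hsi : s ^ i ∈ Cfsg.omegaOne 2 (S : Subgroup G) := zpow_mem
          (subset_closure (show s ∈ {y : G | y ∈ (S : Subgroup G) ∧ y ^ 2 = 1} from ⟨hs, hs2⟩)) i
        simpa using mul_mem (mem_sup_left hsi : s ^ i ∈ N) (mem_sup_right hmem)
    haveI : N.Normal := hNk ▸ MonoidHom.normal_ker _
    let η : G ⧸ N ≃* (G ⧸ O) ⧸ Z := (QuotientGroup.quotientMulEquivOfEq hNk).trans
      (QuotientGroup.quotientKerEquivOfSurjective (f.comp q) (hf.comp hqs))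
    refine ⟨N, inferInstance, rfl, ?_⟩
    rcases hrest with ⟨⟨g⟩⟩ | ⟨⟨g⟩⟩ | ⟨L, hLn, -, hC, hM, -⟩
    · exact Or.inl (autShape_of_altFour (η.trans g))
    · exact Or.inl (autShape_of_permFour (η.trans g))
    · haveI := hLn
      rcases hM with ⟨F, iF, iF', hodd, -, ⟨g⟩⟩ | ⟨⟨g⟩⟩
      · obtain ⟨K, hK, ⟨g'⟩⟩ := exists_aut_range L hC g
        exact Or.inl ⟨F, iF, iF', hodd, K, hK, ⟨η.trans g'⟩⟩
      · obtain ⟨g'⟩ := equiv_alt_seven T₁ E L hC g
        exact Or.inr ⟨η.trans g'⟩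

/-- The consumer: groups generated by their `p`-elements with Sylow subgroups of rank one. -/
theorem strongly_embedded_rank_one {p : ℕ} [Fact p.Prime] (hGW : SimpleGW.{u} (Nat.card G))
    (hgen : Cfsg.pElementClosure p (⊤ : Subgroup G) = ⊤) (X : Subgroup G)
    (hX : Cfsg.IsStronglyPEmbedded p X) (S : Sylow p G) (hr : Cfsg.PRankLE p 1 ↥(S : Subgroup G)) :
    (p ≠ 2 ∧ IsCyclic ↥(S : Subgroup G) ∧ commutator G = ⊤ ∧
        IsSimpleGroup (G ⧸ Cfsg.pPrimeCore p G) ∧ ¬ IsMulCommutative (G ⧸ Cfsg.pPrimeCore p G)) ∨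
      ((S : Subgroup G) ⊔ Cfsg.pPrimeCore p G = ⊤ ∧
        (IsCyclic ↥(S : Subgroup G) ∨ ∃ n : ℕ, Nonempty (↥(S : Subgroup G) ≃* QuaternionGroup n)) ∧
        Cfsg.IsPSolvable p G) ∨
      (p = 2 ∧ (∃ n : ℕ, 2 ≤ n ∧ Nonempty (↥(S : Subgroup G) ≃* QuaternionGroup n)) ∧
        ∃ (N : Subgroup G) (_ : N.Normal),
          N = Cfsg.omegaOne 2 (S : Subgroup G) ⊔ Cfsg.pPrimeCore 2 G ∧
            (AutShape (G ⧸ N) ∨ Nonempty (G ⧸ N ≃* alternatingGroup (Fin 7)))) := by
  rcases sylow_cases S hr with hc | ⟨rfl, k, ⟨e⟩⟩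
  · rcases cyclic_case hgen hX.1 S hc with ⟨h1, h2, h3, h4⟩ | h
    · exact Or.inl ⟨h1, hc, h2, h3, h4⟩
    · exact Or.inr (Or.inl ⟨h, Or.inl hc, isPSolvable_of_sup S h⟩)
  · rcases quaternion_case hGW S k e with h | h
    · exact Or.inr (Or.inl ⟨h, Or.inr ⟨_, ⟨e⟩⟩, isPSolvable_of_sup S h⟩)
    · exact Or.inr (Or.inr ⟨rfl, ⟨_, Nat.le_self_pow (by omega) 2, ⟨e⟩⟩, h⟩)

end CfsgLib.Recog.GW.PElem
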