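import Cfsg.Agent.Lib.Recog.GW.CoverSL
import Cfsg.Agent.Lib.Invol.BrauerSuzuki
import Cfsg.Agent.Lib.Invol.Simple
import Cfsg.Agent.Lib.Fusion.ZStarCenter
import Cfsg.Agent.Lib.Classical.SLGen
import Cfsg.Agent.Lib.ClassK.SmallSimple
import Cfsg.Prelude.Def_CaseTheorems
import Cfsg.Prelude.Def_SporadicB

/-!
Perfect groups of 2-rank one, from the classification of perfect groups with dihedral
Sylow 2-subgroups.
-/

set_option autoImplicit false
set_option linter.unusedSectionVars false

namespace CfsgLib.Recog.GW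

open Subgroup

universe u

/-- The conclusion of the dihedral theorem for all perfect groups. -/
def PerfectDihedral : Prop :=
  ∀ (X : Type u) [Group X] [Finite X] [Group.IsPerfect X] (S : Sylow 2 X) (n : ℕ), 2 ≤ n →
    Nonempty ((S : Subgroup X) ≃* DihedralGroup n) →
    (∃ (F : Type) (_ : Field F) (_ : Fintype F), Odd (Fintype.card F) ∧ 3 < Fintype.card F ∧
        Nonempty (X ⧸ Cfsg.oddCore X ≃* Matrix.ProjectiveSpecialLinearGroup (Fin 2) F)) ∨
      Nonempty (X ⧸ Cfsg.oddCore X ≃* alternatingGroup (Fin 7))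

theorem card_comap_mk' {X : Type*} [Group X] [Finite X] (N : Subgroup X) [N.Normal]
    (M : Subgroup (X ⧸ N)) :
    Nat.card (M.comap (QuotientGroup.mk' N)) = Nat.card N * Nat.card M := by
  have h1 := (M.comap (QuotientGroup.mk' N)).index_mul_card
  rw [index_comap_of_surjective _ (QuotientGroup.mk'_surjective N)] at h1
  have h2 := M.index_mul_card
  have h3 : N.index * Nat.card N = Nat.card X := N.index_mul_card
  rw [index_eq_card N] at h3
  have hpos : 0 < M.index := Nat.pos_of_ne_zero M.index_ne_zero_of_finite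
  apply Nat.eq_of_mul_eq_mul_left hpos
  rw [h1, ← h3, ← h2]; ring

/-- A quaternion group maps onto the dihedral group with kernel the square roots of one. -/
theorem exists_dihedral_hom (m : ℕ) [NeZero m] :
    ∃ ψ : QuaternionGroup m →* DihedralGroup m, Function.Surjective ψ ∧
      ∀ q, ψ q = 1 ↔ q * q = 1 := by
  let c := ZMod.castHom (dvd_mul_left m 2) (ZMod m)
  let ψ : QuaternionGroup m →* DihedralGroup m :=
    { toFun := fun x => match x with
        | .a i => .r (c i)
        | .xa i => .sr (c i)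
      map_one' := by
        show DihedralGroup.r _ = _
        rw [map_zero, DihedralGroup.r_zero]
      map_mul' := by
        rintro (i | i) (j | j) <;>
          simp only [QuaternionGroup.a_mul_a, QuaternionGroup.a_mul_xa, QuaternionGroup.xa_mul_a,
            QuaternionGroup.xa_mul_xa, DihedralGroup.r_mul_r, DihedralGroup.r_mul_sr,
            DihedralGroup.sr_mul_r, DihedralGroup.sr_mul_sr, map_add, map_sub, map_natCast]
        simp }
  refine ⟨ψ, ?_, fun q => ?_⟩
  · rintro (i | i) <;> obtain ⟨j, rfl⟩ := ZMod.castHom_surjective (dvd_mul_left m 2) i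
    · exact ⟨.a j, rfl⟩
    · exact ⟨.xa j, rfl⟩
  · rcases q with i | i
    · change DihedralGroup.r (c i) = 1 ↔ _
      rw [← DihedralGroup.r_zero, QuaternionGroup.a_mul_a, ← QuaternionGroup.a_zero]
      refine ⟨fun h => ?_, fun h => ?_⟩
      · congr 1
        have h1 : c i = 0 := DihedralGroup.r.inj h
        rw [ZMod.castHom_apply, ← ZMod.natCast_val, ZMod.natCast_eq_zero_iff] at h1
        obtain ⟨d, hd⟩ := h1
        rw [← ZMod.natCast_zmod_val i, hd, ← Nat.cast_add, ZMod.natCast_eq_zero_iff]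
        exact ⟨d, by ring⟩
      · congr 1
        have h1 : i + i = 0 := QuaternionGroup.a.inj h
        rw [← ZMod.natCast_zmod_val i, ← Nat.cast_add, ZMod.natCast_eq_zero_iff] at h1
        rw [ZMod.castHom_apply, ← ZMod.natCast_val, ZMod.natCast_eq_zero_iff]
        obtain ⟨d, hd⟩ := h1
        exact ⟨d, by
          rw [mul_assoc] at hd
          omega⟩
    · change DihedralGroup.sr (c i) = 1 ↔ _
      refine ⟨fun h => ?_, fun h => ?_⟩
      · rw [← DihedralGroup.r_zero] at h
        exact DihedralGroup.noConfusion rfl (heq_of_eq h)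
      · exfalso
        have h4 := QuaternionGroup.orderOf_xa i
        have := orderOf_dvd_of_pow_eq_one (show (QuaternionGroup.xa i) ^ 2 = 1 by rw [pow_two, h])
        rw [h4] at this
        exact absurd this (by norm_num)

/-- The central quotient by the involution has dihedral Sylow 2-subgroups. -/
theorem sylow_dihedral {K Y : Type*} [Group K] [Finite K] [Group Y] [Finite Y] (f : K →* Y)
    (hf : Function.Surjective f) (hker : ∀ x, f x = 1 ↔ x ∈ center K ∧ x * x = 1) (S : Sylow 2 K)
    {m : ℕ} [NeZero m] (e : (S : Subgroup K) ≃* QuaternionGroup m) (hc : ∀ x : K, x ∈ (S : Subgroup K) → x * x = 1 → x ∈ center K) :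
    ∃ T : Sylow 2 Y, Nonempty ((T : Subgroup Y) ≃* DihedralGroup m) := by
  obtain ⟨ψ, hψ, hψk⟩ := exists_dihedral_hom m
  refine ⟨S.mapSurjective hf, ⟨?_⟩⟩
  let φ : (S : Subgroup K) →* (S : Subgroup K).map f := f.subgroupMap _
  have hφ : Function.Surjective φ := f.subgroupMap_surjective _
  have hkk : φ.ker = (ψ.comp e.toMonoidHom).ker := by
    ext s
    rw [MonoidHom.mem_ker, MonoidHom.mem_ker]
    change φ s = 1 ↔ ψ (e s) = 1
    rw [hψk, ← map_mul, map_eq_one_iff e e.injective]
    constructor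
    · intro h
      exact Subtype.ext ((hker s).1 (congrArg Subtype.val h)).2
    · intro h
      exact Subtype.ext ((hker s).2 ⟨hc s s.2 (congrArg Subtype.val h), congrArg Subtype.val h⟩)
  exact ((MulEquiv.subgroupCongr (Sylow.coe_mapSurjective hf S)).trans
    ((QuotientGroup.quotientKerEquivOfSurjective φ hφ).symm.trans
      ((QuotientGroup.quotientMulEquivOfEq hkk).trans
        (QuotientGroup.quotientKerEquivOfSurjective _ (hψ.comp e.surjective)))))

theorem commutator_eq_top_of_surjective {X Y : Type*} [Group X] [Group Y] (f : X →* Y)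
    (hf : Function.Surjective f) (hX : commutator X = ⊤) : commutator Y = ⊤ := by
  rw [_root_.commutator_def, ← map_top_of_surjective f hf, ← map_commutator,
    ← _root_.commutator_def, hX]

theorem not_perfect_of_commutative {X : Type*} [Group X] [Nontrivial X]
    (hX : commutator X = ⊤) : ¬ IsMulCommutative X := fun h => by
  have : (commutator X) = ⊥ := by
    rw [_root_.commutator_def, Subgroup.commutator_eq_bot_iff_le_centralizer]
    exact fun x _ => mem_centralizer_iff.2 fun y _ => h.is_comm.comm y x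
  exact bot_ne_top (this.symm.trans hX)

/-- Rank one, perfect, no odd core. -/
theorem rank_one_core {K : Type u} [Group K] [Finite K] (hGW : PerfectDihedral.{u})
    (hP : commutator K = ⊤) (h1 : ∀ E : Subgroup K, ¬ IsKleinFour E) (h2 : Even (Nat.card K))
    (hO : Cfsg.oddCore K = ⊥) :
    (∃ (F : Type) (_ : Field F) (_ : Fintype F), Odd (Fintype.card F) ∧ 3 < Fintype.card F ∧
        Nonempty (K ≃* Matrix.SpecialLinearGroup (Fin 2) F)) ∨
      Cfsg.IsNonsplitDoubleCover K ↥(alternatingGroup (Fin 7)) := by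
  haveI : Nontrivial K := Finite.one_lt_card_iff_nontrivial.1 (by
    obtain ⟨j, hj⟩ := h2; have := Nat.card_pos (α := K); omega)
  have hnorm : ∀ N : Subgroup K, N.Normal → Odd (Nat.card N) → N = ⊥ := fun N hN hodd =>
    le_bot_iff.1 (hO ▸ CfsgLib.Invol.le_oddCore hN hodd)
  obtain ⟨z, hzc, hz⟩ := CfsgLib.Invol.centralInvol K h2 h1 hnorm
  -- the Sylow 2-subgroups are quaternion
  obtain ⟨S⟩ := (inferInstance : Nonempty (Sylow 2 K))
  have hnc : ¬ IsCyclic (S : Subgroup K) := by
    intro hc
    obtain ⟨N, hN, hNc, hq⟩ := CfsgLib.Transfer.hasNormalPComplement_iff_exists.1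
      (CfsgLib.Transfer.hasNormalPComplement_of_normalizer_le_centralizer S
        (hc.normalizer_le_centralizer ((Nat.minFac_eq_two_iff _).2 (even_iff_two_dvd.1 h2))))
    haveI := hN
    obtain rfl := hnorm N hN (Nat.coprime_two_right.1 hNc)
    have hG : IsPGroup 2 K := hq.of_equiv QuotientGroup.quotientBot
    haveI : Group.IsPerfect K := ⟨hP⟩
    haveI := hG.isNilpotent
    exact absurd (inferInstance : Group.IsSolvable K) (Group.IsPerfect.not_isSolvable K)
  obtain ⟨k, ⟨e⟩⟩ := (CfsgLib.Invol.rankOne_sylow h1 S).resolve_left hnc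
  have hk : 1 ≤ k := by
    by_contra h
    obtain rfl : k = 0 := by omega
    haveI : IsCyclic (QuaternionGroup (2 ^ 0)) := QuaternionGroup.quaternionGroup_one_isCyclic
    exact hnc (e.isCyclic.2 this)
  haveI : NeZero (2 ^ k) := ⟨by positivity⟩
  set Z := zpowers z with hZdef
  have hZc : Z ≤ center K := zpowers_le.2 hzc
  haveI hZn : Z.Normal := ⟨fun a ha g => by
    rw [mem_center_iff.1 (hZc ha) g, mul_inv_cancel_right]; exact ha⟩
  let f : K →* K ⧸ Z := QuotientGroup.mk' Z
  have hf : Function.Surjective f := QuotientGroup.mk'_surjective Z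
  have hfk : f.ker = Z := QuotientGroup.ker_mk' Z
  have hinv : ∀ x : K, x * x = 1 → x ≠ 1 → x = z := fun x hx hx1 =>
    CfsgLib.Invol.rankOne_eq_of_commute h1
      (orderOf_eq_prime (by rw [pow_two, hx]) hx1) hz (mem_center_iff.1 hzc x)
  have hsq : ∀ x : K, x * x = 1 → x ∈ Z := fun x hx => by
    rcases eq_or_ne x 1 with rfl | h
    · exact one_mem _
    · rw [hinv x hx h]; exact mem_zpowers z
  have hcZ : Nat.card Z = 2 := by rw [hZdef, Nat.card_zpowers, hz]
  have hker : ∀ x, f x = 1 ↔ x ∈ center K ∧ x * x = 1 := fun x => by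
    rw [← MonoidHom.mem_ker, hfk]
    refine ⟨fun hx => ⟨hZc hx, ?_⟩, fun h => hsq x h.2⟩
    have h2' := pow_card_eq_one' (G := Z) (x := ⟨x, hx⟩)
    rw [hcZ, pow_two] at h2'
    exact congrArg Subtype.val h2'
  obtain ⟨T, hT⟩ := sylow_dihedral f hf hker S e fun x _ hx => hZc (hsq x hx)
  have hPY := commutator_eq_top_of_surjective f hf hP
  haveI : Group.IsPerfect (K ⧸ Z) := ⟨hPY⟩
  have hOY : Cfsg.oddCore (K ⧸ Z) = ⊥ := by
    haveI : (Cfsg.oddCore (K ⧸ Z)).Normal := CfsgLib.Solvable.pPrimeCore_normal 2 _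
    set M := (Cfsg.oddCore (K ⧸ Z)).comap f
    have hle : M ≤ Z := by
      refine CfsgLib.Fusion.le_of_central_of_odd hO inferInstance ?_ hZc ?_
      · intro x hx
        rw [mem_comap, show f x = 1 from (QuotientGroup.eq_one_iff x).2 hx]
        exact one_mem _
      · rw [show Z = (⊥ : Subgroup (K ⧸ Z)).comap f by rw [MonoidHom.comap_bot, hfk],
          relIndex_comap, map_comap_eq_self_of_surjective hf, relIndex_bot_left]
        exact CfsgLib.Invol.odd_card_oddCore _
    refine (eq_bot_iff_forall _).2 fun y hy => ?_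
    obtain ⟨x, rfl⟩ := hf y
    exact (QuotientGroup.eq_one_iff x).2 (hle hy)
  let q0 : (K ⧸ Z) ⧸ Cfsg.oddCore (K ⧸ Z) ≃* K ⧸ Z :=
    (QuotientGroup.quotientMulEquivOfEq hOY).trans QuotientGroup.quotientBot
  rcases hGW (K ⧸ Z) T (2 ^ k) (Nat.le_self_pow (by omega) 2) hT with
    ⟨F, hF, hF', hodd, hq, ⟨g⟩⟩ | hg
  · left
    refine ⟨F, hF, hF', hodd, hq, ?_⟩
    let f' : K →* Matrix.ProjectiveSpecialLinearGroup (Fin 2) F := (q0.symm.trans g).toMonoidHom.comp f
    have hker' : f'.ker = Z := by
      ext x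
      rw [MonoidHom.mem_ker, ← hfk, MonoidHom.mem_ker]
      exact map_eq_one_iff (q0.symm.trans g) (q0.symm.trans g).injective
    exact equiv_sl_of_cover hodd hq hP f' ((q0.symm.trans g).surjective.comp hf)
      (hker'.le.trans hZc) (by rw [hker', hcZ])
  · right
    obtain ⟨g⟩ := hg
    let g' := q0.symm.trans g
    haveI : IsSimpleGroup (alternatingGroup (Fin 7)) := alternatingGroup.isSimpleGroup (by simp)
    have hA : center (alternatingGroup (Fin 7)) = ⊥ := by
      haveI : Nontrivial (alternatingGroup (Fin 7)) := IsSimpleGroup.toNontrivial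
      exact CfsgLib.Invol.center_eq_bot_of_simple (not_perfect_of_commutative
        (commutator_eq_top_of_surjective (g'.toMonoidHom.comp f) (g'.surjective.comp hf) hP))
    have hcen : center K = Z := by
      refine le_antisymm (fun x hx => ?_) hZc
      have hmem : g' (f x) ∈ center (alternatingGroup (Fin 7)) := by
        refine mem_center_iff.2 fun y => ?_
        obtain ⟨w, rfl⟩ := (g'.surjective.comp hf) y
        change g' (f w) * g' (f x) = g' (f x) * g' (f w)
        rw [← map_mul, ← map_mul, ← map_mul, ← map_mul, mem_center_iff.1 hx w]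
      rw [hA, Subgroup.mem_bot, map_eq_one_iff g' g'.injective] at hmem
      exact (QuotientGroup.eq_one_iff x).1 hmem
    refine ⟨by rw [hcen, hcZ], ⟨(QuotientGroup.quotientMulEquivOfEq hcen).trans g'⟩, fun L hL => ?_⟩
    have hLn : L.Normal := by
      refine ⟨fun l hl y => ?_⟩
      obtain ⟨⟨c, l'⟩, rfl⟩ := hL.2 y
      have hc := mem_center_iff.1 c.2
      change (c : K) * l' * l * ((c : K) * l')⁻¹ ∈ L
      have e1 : (c : K) * l' * l * ((c : K) * l')⁻¹ = l' * l * (l' : K)⁻¹ := by
        calc (c : K) * l' * l * ((c : K) * l')⁻¹ = (c : K) * ((l' : K) * l * (l' : K)⁻¹) * (c : K)⁻¹ := by group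
          _ = l' * l * (l' : K)⁻¹ := by rw [← hc ((l' : K) * l * (l' : K)⁻¹), mul_inv_cancel_right]
      rw [e1]
      exact L.mul_mem (L.mul_mem l'.2 hl) (L.inv_mem l'.2)
    haveI := hLn
    haveI : Group.IsPerfect K := ⟨hP⟩
    have hidx : L.index = 2 := by
      rw [hL.index_eq_card, hcen, hcZ]
    haveI : IsMulCommutative (K ⧸ L) := by
      haveI : IsCyclic (K ⧸ L) := by
        haveI : Fact (Nat.Prime 2) := ⟨Nat.prime_two⟩
        exact isCyclic_of_prime_card (p := 2) (by rw [← index_eq_card, hidx])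
      exact ⟨⟨(IsCyclic.commGroup (α := K ⧸ L)).mul_comm⟩⟩
    haveI : Nontrivial (K ⧸ L) := Finite.one_lt_card_iff_nontrivial.1 (by
      rw [← index_eq_card, hidx]; norm_num)
    exact not_perfect_of_commutative (commutator_eq_top_of_surjective (QuotientGroup.mk' L)
      (QuotientGroup.mk'_surjective L) hP) inferInstance

/-- The consumer: perfect groups of 2-rank one. -/
theorem rank_one_perfect {X : Type u} [Group X] [Finite X] (hGW : PerfectDihedral.{u})
    (hP : Group.IsPerfect X) (h1 : Cfsg.PRankLE 2 1 X) (h2 : Even (Nat.card X)) :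
    (∃ (F : Type) (_ : Field F) (_ : Fintype F), Odd (Fintype.card F) ∧ 3 < Fintype.card F ∧
        Nonempty (X ⧸ Cfsg.oddCore X ≃* Matrix.SpecialLinearGroup (Fin 2) F)) ∨
      Cfsg.IsNonsplitDoubleCover (X ⧸ Cfsg.oddCore X) ↥(alternatingGroup (Fin 7)) := by
  haveI : (Cfsg.oddCore X).Normal := CfsgLib.Solvable.pPrimeCore_normal 2 X
  have hodd := CfsgLib.Invol.odd_card_oddCore X
  refine rank_one_core hGW (commutator_eq_top_of_surjective (QuotientGroup.mk' _)
    (QuotientGroup.mk'_surjective _) hP.commutator_eq_top) (fun E hE => ?_) ?_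
    CfsgLib.Fusion.oddCore_quotient_oddCore
  · -- a Klein four-group lifts
    haveI : Fact (Nat.Prime 2) := ⟨Nat.prime_two⟩
    have hdvd : (2 : ℕ) ^ 2 ∣ Nat.card (E.comap (QuotientGroup.mk' (Cfsg.oddCore X))) := by
      rw [card_comap_mk']
      exact Dvd.dvd.mul_left (by rw [hE.card_four]; norm_num) _
    obtain ⟨P, hP2⟩ := Sylow.exists_subgroup_card_pow_prime 2 hdvd
    have hker : ∀ a ∈ P, QuotientGroup.mk' (Cfsg.oddCore X) ↑a = 1 → a = 1 := by
      intro a ha h
      have h3 : orderOf a ∣ Nat.card P := Subgroup.orderOf_dvd_natCard _ ha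
      have h4 : orderOf a ∣ Nat.card (Cfsg.oddCore X) := by
        rw [← Subgroup.orderOf_coe]
        exact Subgroup.orderOf_dvd_natCard _ ((QuotientGroup.eq_one_iff _).1 h)
      rw [hP2] at h3
      refine orderOf_eq_one_iff.1 (Nat.eq_one_of_dvd_coprimes ?_ h3 h4)
      exact Nat.Coprime.pow_left 2 (Nat.coprime_two_left.2 hodd)
    have hsq : ∀ a ∈ P, a * a = 1 := fun a ha => hker _ (P.mul_mem ha ha) (by
      have h3 := Monoid.pow_exponent_eq_one (⟨_, a.2⟩ : E)
      rw [hE.exponent_two, pow_two] at h3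
      rw [Subgroup.coe_mul, map_mul]
      exact congrArg Subtype.val h3)
    have := h1 (P.map (Subgroup.subtype _)) ?_ ?_
    · rw [card_map_of_injective (Subgroup.subtype_injective _), hP2] at this
      omega
    · refine ⟨⟨fun a b => Subtype.ext ?_⟩⟩
      obtain ⟨a, a', ha, rfl⟩ := a
      obtain ⟨b, b', hb, rfl⟩ := b
      change (a' : X) * b' = b' * a'
      have e1 := hsq a' ha
      have e2 := hsq b' hb
      have e3 := hsq (a' * b') (P.mul_mem ha hb)
      have : a' * b' = b' * a' := by
        calc a' * b' = (a' * b')⁻¹ := (inv_eq_of_mul_eq_one_right e3).symm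
          _ = b'⁻¹ * a'⁻¹ := mul_inv_rev _ _
          _ = b' * a' := by rw [inv_eq_of_mul_eq_one_right e1, inv_eq_of_mul_eq_one_right e2]
      exact congrArg Subtype.val this
    · rintro _ ⟨a, ha, rfl⟩
      rw [pow_two, ← map_mul, hsq a ha, map_one]
  · have h := (Cfsg.oddCore X).index_mul_card
    rw [index_eq_card] at h
    rw [← h, Nat.even_mul] at h2
    exact h2.resolve_right (Nat.not_even_iff_odd.2 hodd)

end CfsgLib.Recog.GW
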