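import Cfsg.Agent.Lib.Invol.DihedralFusion
import Mathlib.Tactic
import Mathlib.GroupTheory.Solvable
import Mathlib.GroupTheory.SpecificGroups.Alternating

/-!
Automorphism groups of dihedral 2-groups and of their subgroups.
-/

set_option autoImplicit false
set_option linter.unusedSectionVars false
set_option linter.style.haveILetI false
set_option linter.deprecated false

namespace CfsgLib.Recog.GW

open Subgroup CfsgLib.Invol

universe u

/-- Automorphisms of odd order of a 2-group with a fixed cyclic subgroup of index at most 2. -/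
theorem aut_eq_one_of_fixed_cyclic {U : Type u} [Group U] [Finite U] (hU : IsPGroup 2 U)
    (φ : MulAut U) (hodd : Odd (orderOf φ)) (a : U) (hinv : φ a ∈ zpowers a)
    (hcov : ∀ x y : U, x ∉ zpowers a → y ∉ zpowers a → x⁻¹ * y ∈ zpowers a) : φ = 1 := by
  have hodd2 : ∀ x : U, x ^ orderOf φ = 1 → x = 1 := fun x hx => by
    obtain ⟨i, hi⟩ := hU.exists_orderOf_dvd_pow x
    exact orderOf_eq_one_iff.1 (Nat.eq_one_of_dvd_coprimes ((hodd.coprime_two_right).pow_right _)
      (orderOf_dvd_of_pow_eq_one hx) hi)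
  -- the cyclic part is fixed
  have ha : φ a = a := by
    obtain ⟨e, he⟩ := mem_zpowers_iff.1 hinv
    have hiter : ∀ n : ℕ, (φ ^ n) a = a ^ (e ^ n) := by
      intro n
      induction n with
      | zero => simp
      | succ n ih => rw [pow_succ', MulAut.mul_apply, ih, map_zpow, ← he, ← zpow_mul, pow_succ']
    have h1 : a ^ (e ^ orderOf φ) = a ^ (1 : ℤ) := by
      rw [← hiter, pow_orderOf_eq_one, zpow_one]; rfl
    obtain ⟨k, hk⟩ := hU.exists_orderOf_dvd_pow a
    obtain ⟨i, -, hi⟩ := (Nat.dvd_prime_pow Nat.prime_two).1 hk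
    rw [zpow_eq_zpow_iff_modEq, hi] at h1
    rw [← he]
    conv_rhs => rw [← zpow_one a]
    rw [zpow_eq_zpow_iff_modEq, hi]
    rw [← ZMod.intCast_eq_intCast_iff, Int.cast_pow, Int.cast_one] at h1
    rw [← ZMod.intCast_eq_intCast_iff, Int.cast_one]
    obtain ⟨u, hu⟩ := IsUnit.of_pow_eq_one h1 hodd.pos.ne'
    have hu1 : u ^ orderOf φ = 1 := Units.ext (by rw [Units.val_pow_eq_pow_val, hu, h1, Units.val_one])
    rcases Nat.eq_zero_or_pos i with rfl | hi0
    · haveI : Subsingleton (ZMod (2 ^ 0)) := by rw [pow_zero]; infer_instance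
      exact Subsingleton.elim _ _
    have hcard : Nat.card (ZMod (2 ^ i))ˣ = 2 ^ (i - 1) := by
      rw [Nat.card_eq_fintype_card, ZMod.card_units_eq_totient, Nat.totient_prime_pow Nat.prime_two hi0]
      simp
    have : u = 1 := orderOf_eq_one_iff.1 (Nat.eq_one_of_dvd_coprimes
      ((hodd.coprime_two_right).pow_right _) (orderOf_dvd_of_pow_eq_one hu1)
      (hcard ▸ orderOf_dvd_natCard u))
    rw [← hu, this, Units.val_one]
  have hfix : ∀ c ∈ zpowers a, φ c = c := fun c hc => by
    obtain ⟨i, rfl⟩ := mem_zpowers_iff.1 hc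
    rw [map_zpow, ha]
  refine MulEquiv.ext fun x => ?_
  rw [MulAut.one_apply]
  by_cases hx : x ∈ zpowers a
  · exact hfix x hx
  have hφx : φ x ∉ zpowers a := fun h => hx (by
    have h2 := hfix _ h
    rwa [φ.injective h2] at h)
  set c := x⁻¹ * φ x with hcdef
  have hc : c ∈ zpowers a := hcov x (φ x) hx hφx
  have hφc : φ x = x * c := by rw [hcdef, mul_inv_cancel_left]
  have hiter : ∀ n : ℕ, (φ ^ n) x = x * c ^ n := by
    intro n
    induction n with
    | zero => simp
    | succ n ih => rw [pow_succ', MulAut.mul_apply, ih, map_mul, map_pow, hfix c hc, hφc,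
        pow_succ', mul_assoc]
  have hc1 : c = 1 := hodd2 c (mul_left_cancel (a := x)
    (by rw [← hiter, pow_orderOf_eq_one, mul_one, MulAut.one_apply]))
  rw [hφc, hc1, mul_one]

/-- Groups embedded in the symmetric group on three letters are solvable. -/
theorem isSolvable_perm_three : Group.IsSolvable (Equiv.Perm (Fin 3)) := by
  haveI : IsCyclic ↥(alternatingGroup (Fin 3)) := by
    haveI : Fact (Nat.Prime 3) := ⟨Nat.prime_three⟩
    refine isCyclic_of_prime_card (p := 3) ?_
    rw [nat_card_alternatingGroup, Nat.card_eq_fintype_card, Fintype.card_fin]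
    rfl
  haveI : IsMulCommutative ↥(alternatingGroup (Fin 3)) := inferInstance
  haveI : Group.IsSolvable ↥(alternatingGroup (Fin 3)) := Group.isSolvable_of_comm fun a b => IsMulCommutative.is_comm.comm a b
  exact Group.isSolvable_of_ker_le_range (alternatingGroup (Fin 3)).subtype
    (Equiv.Perm.sign (α := Fin 3)) (fun x hx => ⟨⟨x, hx⟩, rfl⟩)

/-- The automorphism group of a group of order four is solvable. -/
theorem isSolvable_mulAut_four {U : Type u} [Group U] (hU : Nat.card U = 4) :
    Group.IsSolvable (MulAut U) := by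
  classical
  haveI : Finite U := Nat.finite_of_card_ne_zero (by omega)
  haveI : Fintype U := Fintype.ofFinite U
  have hc : Fintype.card {x : U // x ≠ 1} = 3 := by
    rw [Fintype.card_subtype_compl, ← Nat.card_eq_fintype_card, hU, Fintype.card_subtype_eq]
  let e := Fintype.equivFinOfCardEq hc
  let f : MulAut U →* Equiv.Perm {x : U // x ≠ 1} :=
    MonoidHom.mk' (fun φ => φ.toEquiv.subtypeEquiv fun x => by simp)
      (fun φ ψ => Equiv.ext fun x => rfl)
  have hf : Function.Injective f := fun φ ψ h => by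
    refine MulEquiv.ext fun x => ?_
    by_cases hx : x = 1
    · rw [hx, map_one, map_one]
    · exact congrArg Subtype.val (Equiv.congr_fun h ⟨x, hx⟩)
  haveI := isSolvable_perm_three
  haveI : Group.IsSolvable (Equiv.Perm {x : U // x ≠ 1}) :=
    solvable_of_solvable_injective (f := (e.permCongrHom).toMonoidHom) e.permCongrHom.injective
  exact solvable_of_solvable_injective hf

variable {S : Type u} [Group S] [Finite S] (D : DihData S)

include D in
theorem isPGroup_dihData : IsPGroup 2 S := by
  obtain ⟨k, hk⟩ := D.h_pow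
  exact IsPGroup.of_card (n := k + 2) (by rw [D.card_eq, hk, pow_add]; ring)

include D in
/-- A subgroup of a dihedral 2-group has a 2-group of automorphisms or is a four-group. -/
theorem mulAut_cases (U : Subgroup S) : IsPGroup 2 (MulAut U) ∨ Nat.card U = 4 := by
  classical
  refine or_iff_not_imp_right.2 fun h4 => ?_
  haveI : Fact (Nat.Prime 2) := ⟨Nat.prime_two⟩
  have hS := isPGroup_dihData D
  have hUp : IsPGroup 2 U := hS.to_subgroup U
  -- a characteristic cyclic subgroup of index at most two
  obtain ⟨a, hchar, hcov⟩ : ∃ a : U, (∀ φ : MulAut U, φ a ∈ zpowers a) ∧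
      ∀ x y : U, x ∉ zpowers a → y ∉ zpowers a → x⁻¹ * y ∈ zpowers a := by
    set R : Subgroup U := (zpowers D.r).subgroupOf U with hR
    haveI : IsCyclic R := by
      let f : R →* zpowers D.r := MonoidHom.mk' (fun x => ⟨((x : U) : S), x.2⟩) (fun _ _ => rfl)
      exact isCyclic_of_injective f fun x y h =>
        Subtype.ext (Subtype.ext (congrArg (fun z : zpowers D.r => (z : S)) h))
    obtain ⟨⟨a, ha⟩, hgen⟩ := IsCyclic.exists_generator (α := R)
    have hRa : zpowers a = R := le_antisymm (zpowers_le.2 ha) fun x hx => by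
      obtain ⟨i, hi⟩ := mem_zpowers_iff.1 (hgen ⟨x, hx⟩)
      exact ⟨i, by simpa using congrArg Subtype.val hi⟩
    have hout : ∀ x : U, x ∉ R → ∃ i : ℤ, (x : S) = D.r ^ i * D.s := fun x hx =>
      (D.cases (x : S)).resolve_left fun ⟨i, hi⟩ => hx
        (show (x : S) ∈ zpowers D.r from hi ▸ zpow_mem (mem_zpowers _) i)
    have hcov : ∀ x y : U, x ∉ zpowers a → y ∉ zpowers a → x⁻¹ * y ∈ zpowers a := by
      rw [hRa]
      intro x y hx hy
      obtain ⟨i, hi⟩ := hout x hx
      obtain ⟨j, hj⟩ := hout y hy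
      show ((x⁻¹ * y : U) : S) ∈ zpowers D.r
      rw [Subgroup.coe_mul, Subgroup.coe_inv, hi, hj, mul_inv_rev,
        inv_eq_of_mul_eq_one_right (invol_mul_self D.orderOf_s)]
      refine ⟨-(j - i), ?_⟩
      show D.r ^ (-(j - i)) = D.s * (D.r ^ i)⁻¹ * (D.r ^ j * D.s)
      have hs := D.conj_r
      rw [zpow_neg, ← inv_zpow, ← hs, conj_zpow, zpow_sub,
        inv_eq_of_mul_eq_one_right (invol_mul_self D.orderOf_s)]
      have hcomm : D.r ^ j * (D.r ^ i)⁻¹ = (D.r ^ i)⁻¹ * D.r ^ j :=
        (((Commute.refl D.r).zpow_zpow j i).inv_right).eq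
      rw [hcomm]
      simp only [mul_assoc]
    by_cases hall : ∀ x : U, x ∈ R
    · exact ⟨a, fun φ => hRa.symm ▸ hall _, hcov⟩
    push Not at hall
    obtain ⟨x, hx⟩ := hall
    -- outside the cyclic subgroup all elements square to one
    have hsq : ∀ y : U, y ∉ R → y ^ 2 = 1 := fun y hy => by
      obtain ⟨i, hi⟩ := hout y hy
      refine Subtype.ext ?_
      rw [Subgroup.coe_pow, hi, pow_two, Subgroup.coe_one]
      exact invol_mul_self (D.orderOf_zy i)
    by_cases h2 : a ^ 2 = 1
    · -- order at most two: the group has order at most four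
      rcases eq_or_ne a 1 with rfl | ha1
      · exact ⟨1, fun φ => by rw [map_one]; exact one_mem _, hcov⟩
      exfalso
      apply h4
      have hidx : R.index = 2 := by
        refine index_eq_two_iff'.2 ⟨x, fun b => ?_⟩
        by_cases hb : b ∈ R
        · exact Or.inr ⟨hb, fun h => hx ((mul_mem_cancel_right hb).1 h)⟩
        · refine Or.inl ⟨?_, hb⟩
          have h1 := hcov x b (hRa.symm ▸ hx) (hRa.symm ▸ hb)
          rwa [hRa, inv_eq_of_mul_eq_one_right (by rw [← pow_two]; exact hsq x hx)] at h1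
      have hc : Nat.card R = 2 := by
        rw [← hRa, Nat.card_zpowers]
        exact orderOf_eq_prime h2 ha1
      rw [← R.card_mul_index, hc, hidx]
    · refine ⟨a, fun φ => ?_, hcov⟩
      by_contra hφ
      have := hsq (φ a) (hRa ▸ hφ)
      rw [← map_pow, ← map_one φ] at this
      exact h2 (φ.injective this)
  intro φ
  obtain ⟨m, q, hqodd, hq⟩ := Nat.exists_eq_two_pow_mul_odd (orderOf_pos φ).ne'
  refine ⟨m, aut_eq_one_of_fixed_cyclic hUp _ ?_ a (hchar _) hcov⟩
  rw [orderOf_pow_of_dvd (pow_ne_zero _ two_ne_zero) (hq ▸ dvd_mul_right _ _), hq,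
    Nat.mul_div_cancel_left _ (pow_pos two_pos _)]
  exact hqodd

include D in
/-- The automorphism group of a dihedral 2-group is solvable. -/
theorem isSolvable_mulAut : Group.IsSolvable (MulAut S) := by
  let e : MulAut (⊤ : Subgroup S) ≃* MulAut S := MulAut.congr Subgroup.topEquiv
  haveI : Group.IsSolvable (MulAut (⊤ : Subgroup S)) := by
    rcases mulAut_cases D ⊤ with h | h
    · haveI : Fact (Nat.Prime 2) := ⟨Nat.prime_two⟩
      haveI := h.isNilpotent
      infer_instance
    · exact isSolvable_mulAut_four h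
  exact solvable_of_solvable_injective (f := e.symm.toMonoidHom) e.symm.injective

end CfsgLib.Recog.GW
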