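import Cfsg.Agent.Lib.Recog.GW.RankOne
import Cfsg.Agent.Lib.Recog.SuborbitThree.PSLFacts
import Cfsg.Agent.Lib.Geom.PairStab
import Cfsg.Agent.Lib.Geom.DicksonPSL
import Cfsg.Agent.Lib.Fusion.SimplePSLTwo
import Cfsg.Agent.Lib.KnownB.PSL2Elem
import Cfsg.Agent.Lib.Classical.ExcIsoSeven
import Cfsg.Agent.Lib.Classical.ExcIsoPermOdd
import Cfsg.Agent.Lib.Invol.SemisimpleFour.Main
import Cfsg.Agent.Lib.Comp.FStar
import Cfsg.Agent.S5892

/-!
Centralizers of involutions of `PSL₂(q)`, `q ≥ 11` odd, are maximal; component-free overgroups in a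
simple group with dihedral Sylow 2-subgroups.
-/

set_option autoImplicit false
set_option linter.unusedSectionVars false

namespace CfsgLib.Recog.GW

open Subgroup Matrix
open scoped MatrixGroups

universe u

/-- A bound on centralizers of involutions passes to an isomorphic subgroup. -/
theorem card_centralizer_le_of_model {G A : Type*} [Group G] [Finite G] [Group A] [Finite A]
    {M : Subgroup G} (e : M ≃* A) {t : G} (ht : orderOf t = 2) (hCM : centralizer ({t} : Set G) ≤ M)
    {b : ℕ} (hA : ∀ a : A, a * a = 1 → a ≠ 1 → Nat.card (centralizer ({a} : Set A)) ≤ b) :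
    Nat.card (centralizer ({t} : Set G)) ≤ b := by
  have htM : t ∈ M := hCM (mem_centralizer_singleton_iff.2 rfl)
  have h2 : t * t = 1 := by rw [← pow_two, ← ht, pow_orderOf_eq_one]
  refine le_trans (Nat.card_le_card_of_injective
    (fun c : centralizer ({t} : Set G) =>
      (⟨e ⟨c, hCM c.2⟩, mem_centralizer_singleton_iff.2 (by
        rw [← map_mul, ← map_mul]
        exact congrArg e (Subtype.ext (mem_centralizer_singleton_iff.1 c.2)))⟩ :
        centralizer ({e ⟨t, htM⟩} : Set A)))
    fun c d h => Subtype.ext (congrArg (fun x : M => (x : G)) (e.injective (congrArg Subtype.val h)))) (hA _ ?_ ?_)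
  · rw [← map_mul, ← map_one e]
    exact congrArg e (Subtype.ext h2)
  · intro h
    rw [e.map_eq_one_iff] at h
    rw [show t = 1 from congrArg Subtype.val h, orderOf_one] at ht
    omega

theorem alt_five_centralizer (a : alternatingGroup (Fin 5)) (h : a * a = 1) (h1 : a ≠ 1) :
    Nat.card (centralizer ({a} : Set (alternatingGroup (Fin 5)))) ≤ 4 := by
  have key : ∀ a : alternatingGroup (Fin 5), a * a = 1 → a ≠ 1 →
      (Finset.univ.filter fun g => g * a = a * g).card ≤ 4 := by decide +kernel
  refine le_trans (le_of_eq ?_) (key a h h1)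
  rw [← Fintype.card_subtype, ← Nat.card_eq_fintype_card]
  exact Nat.card_congr (Equiv.subtypeEquivRight fun g => mem_centralizer_singleton_iff)

theorem alt_four_centralizer (a : alternatingGroup (Fin 4)) (h : a * a = 1) (h1 : a ≠ 1) :
    Nat.card (centralizer ({a} : Set (alternatingGroup (Fin 4)))) ≤ 4 := by
  have key : ∀ a : alternatingGroup (Fin 4), a * a = 1 → a ≠ 1 →
      (Finset.univ.filter fun g => g * a = a * g).card ≤ 4 := by decide +kernel
  refine le_trans (le_of_eq ?_) (key a h h1)
  rw [← Fintype.card_subtype, ← Nat.card_eq_fintype_card]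
  exact Nat.card_congr (Equiv.subtypeEquivRight fun g => mem_centralizer_singleton_iff)

theorem perm_four_centralizer (a : Equiv.Perm (Fin 4)) (h : a * a = 1) (h1 : a ≠ 1) :
    Nat.card (centralizer ({a} : Set (Equiv.Perm (Fin 4)))) ≤ 8 := by
  have key : ∀ a : Equiv.Perm (Fin 4), a * a = 1 → a ≠ 1 →
      (Finset.univ.filter fun g => g * a = a * g).card ≤ 8 := by decide +kernel
  refine le_trans (le_of_eq ?_) (key a h h1)
  rw [← Fintype.card_subtype, ← Nat.card_eq_fintype_card]
  exact Nat.card_congr (Equiv.subtypeEquivRight fun g => mem_centralizer_singleton_iff)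

section PSL

variable {F : Type} [Field F] [Fintype F]

local notation "S2" => ProjectiveSpecialLinearGroup (Fin 2) F

theorem psl_centralizer_le {F₀ : Type} [Field F₀] [Fintype F₀] (hodd : Odd (Fintype.card F₀))
    (h4 : 4 ≤ Fintype.card F₀) (a : ProjectiveSpecialLinearGroup (Fin 2) F₀) (h : a * a = 1)
    (h1 : a ≠ 1) :
    Nat.card (centralizer ({a} : Set (ProjectiveSpecialLinearGroup (Fin 2) F₀))) ≤
      Fintype.card F₀ + 1 := by
  have h2 : orderOf a = 2 := orderOf_eq_prime (by rw [pow_two, h]) h1
  rcases CfsgLib.Recog.SuborbitThree.card_centralizer_involution_psl hodd h4 h2 with e | e <;>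
    rw [e] <;> omega

/-- The centralizer of an involution in `PSL₂(q)` is maximal for odd `q ≥ 11`. -/
theorem centralizer_maximal (hodd : Odd (Fintype.card F)) (h11 : 11 ≤ Fintype.card F) {t : S2}
    (ht : orderOf t = 2) {K : Subgroup S2} (hK : centralizer ({t} : Set S2) < K) : K = ⊤ := by
  classical
  by_contra hne
  obtain ⟨M, hM, hKM⟩ := (eq_top_or_exists_le_coatom K).resolve_left hne
  have hlt : centralizer ({t} : Set S2) < M := lt_of_lt_of_le hK hKM
  have hcard := CfsgLib.Recog.SuborbitThree.card_centralizer_involution_psl hodd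
    (by omega : 4 ≤ Fintype.card F) ht
  have hdvd := card_dvd_of_le hlt.le
  have hne' : Nat.card (centralizer ({t} : Set S2)) ≠ Nat.card M := fun e =>
    hlt.ne (eq_of_le_of_card_ge hlt.le e.ge)
  obtain ⟨p, hp⟩ := CharP.exists F
  have : Fact p.Prime := ⟨CharP.char_is_prime F p⟩
  have hF2 : ∀ (F₀ : Type) [Field F₀] [Fintype F₀], ∀ n : ℕ, Fintype.card F = Fintype.card F₀ ^ n →
      n ≠ 0 → Odd (Fintype.card F₀) := by
    intro F₀ _ _ n h hn
    rw [h] at hodd
    exact (Nat.odd_pow_iff hn).1 hodd
  obtain ⟨i, hi⟩ : ∃ i, Fintype.card F = 2 * i + 1 := id hodd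
  rcases Cfsg.Agent.S5892.result p hodd (by omega) M hM with h | ⟨-, j, hj, ⟨e⟩⟩ |
    ⟨-, -, j, hj, ⟨e⟩⟩ | ⟨F₀, _, _, hc, ⟨e⟩⟩ | ⟨F₀, _, _, r, hr, hr2, hc, ⟨e⟩⟩ | ⟨-, -, ⟨e⟩⟩ |
    ⟨-, -, -, ⟨e⟩⟩ | ⟨-, -, ⟨e⟩⟩
  · -- the Borel subgroup
    obtain ⟨c, hc⟩ := hdvd
    rw [hc] at h
    rw [hi, Nat.add_sub_cancel] at h hcard
    rcases hcard with e | e <;> rw [e] at h
    · have h' : 2 * c = Fintype.card F := by
        refine Nat.eq_of_mul_eq_mul_left (n := 2 * i) (by omega) ?_
        rw [hi]; linarith
      omega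
    · have hco : Nat.Coprime (2 * i + 1 + 1) (2 * i + 1) := by
        simp [Nat.coprime_self_add_left]
      have h' : 2 * i + 1 + 1 ∣ 2 * i := hco.dvd_of_dvd_mul_left ⟨2 * c, by linarith⟩
      have := Nat.le_of_dvd (by omega) h'
      omega
  · rw [Nat.card_congr e.toEquiv, DihedralGroup.nat_card, hj] at hdvd hne'
    have := Nat.le_of_dvd (by omega) hdvd
    obtain ⟨c, hc⟩ := hdvd
    rcases hcard with e | e <;> rw [e] at hc hne' this <;> omega
  · rw [Nat.card_congr e.toEquiv, DihedralGroup.nat_card, hj] at hdvd hne'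
    have := Nat.le_of_dvd (by omega) hdvd
    obtain ⟨c, hc⟩ := hdvd
    rcases hcard with e | e <;> rw [e] at hc hne' this
    · rcases Nat.lt_or_ge c 2 with h | h
      · interval_cases c <;> omega
      · have : (Fintype.card F - 1) * 2 ≤ (Fintype.card F - 1) * c := Nat.mul_le_mul_left _ h
        omega
    · omega
  · -- `PGL₂(√q)`
    have h0 := hF2 F₀ 2 hc two_ne_zero
    have : Finite PGL(2, F₀) := CfsgLib.Geom.Moebius.finite_pgl_two
    obtain ⟨g, hg⟩ : ∃ g : S2, orderOf g = 4 := by
      refine CfsgLib.KnownB.SL2.exists_orderOf_psl p (Or.inr (Or.inl ?_))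
      rw [CfsgLib.Geom.Moebius.gcd_two_of_odd hodd]
      obtain ⟨k, hk⟩ := h0
      obtain ⟨a, ha⟩ := Nat.even_mul_succ_self k
      refine ⟨a, ?_⟩
      rw [hc, hk, show (2 * k + 1) ^ 2 = 4 * (k * (k + 1)) + 1 by ring, ha]
      omega
    obtain ⟨y, hy⟩ := isConj_iff.1 (CfsgLib.Fusion.psl_two_involutions_conj hodd (g ^ 2) t
      (by rw [orderOf_pow' g two_ne_zero, hg]; norm_num) ht)
    have hsq : (y * g * y⁻¹) * (y * g * y⁻¹) = t := by rw [← hy, pow_two]; group
    have hxC : y * g * y⁻¹ ∈ centralizer ({t} : Set S2) := by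
      rw [mem_centralizer_singleton_iff, ← hsq]
      group
    let L : Subgroup M := (CfsgLib.Geom.Moebius.imL F₀).comap e.toMonoidHom
    have hL2 : L.index = 2 := by
      rw [Subgroup.index_comap_of_surjective _ e.surjective, CfsgLib.Geom.Moebius.imL_index h0]
    have htM : t ∈ M := hlt.le (mem_centralizer_singleton_iff.2 rfl)
    have htL : e ⟨t, htM⟩ ∈ CfsgLib.Geom.Moebius.imL F₀ := by
      have : (⟨y * g * y⁻¹, hlt.le hxC⟩ * ⟨y * g * y⁻¹, hlt.le hxC⟩ : M) = ⟨t, htM⟩ :=
        Subtype.ext hsq
      rw [← this]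
      exact mul_self_mem_of_index_two hL2 _
    obtain ⟨a, ha⟩ := htL
    have h4 : 4 ≤ Fintype.card F₀ := by
      by_contra h
      rw [not_le] at h
      have : Fintype.card F₀ ^ 2 ≤ 3 ^ 2 := Nat.pow_le_pow_left (by omega) 2
      omega
    have ha2 : a * a = 1 ∧ a ≠ 1 := by
      constructor
      · refine Matrix.ProjectiveSpecialLinearGroup.toPGL_injective ?_
        rw [map_mul, map_one, ha, ← map_mul]
        refine (congrArg e (Subtype.ext ?_)).trans (map_one e)
        change t * t = 1
        have h2 := pow_orderOf_eq_one t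
        rwa [ht, pow_two] at h2
      · intro h
        rw [h, map_one, eq_comm, e.map_eq_one_iff] at ha
        rw [show t = 1 from congrArg Subtype.val ha, orderOf_one] at ht
        omega
    have hb := psl_centralizer_le h0 h4 a ha2.1 ha2.2
    rw [CfsgLib.Geom.Moebius.card_centralizer_psl, ha] at hb
    -- at most two cosets of the special part
    have hC2 : Nat.card (centralizer ({t} : Set S2)) ≤ 2 * (Fintype.card F₀ + 1) := by
      set C : Subgroup M := (centralizer ({t} : Set S2)).subgroupOf M
      have h1 : Nat.card (L ⊓ C : Subgroup M) ≤ Fintype.card F₀ + 1 := by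
        refine le_trans (Nat.card_le_card_of_injective (fun c : (L ⊓ C : Subgroup M) =>
          (⟨e c, mem_inf.2 ⟨mem_centralizer_singleton_iff.2 (by
            rw [← map_mul, ← map_mul]
            exact congrArg e (Subtype.ext (mem_centralizer_singleton_iff.1
              (mem_subgroupOf.1 (mem_inf.1 c.2).2)))), (mem_inf.1 c.2).1⟩⟩ :
            (centralizer ({e ⟨t, htM⟩} : Set PGL(2, F₀)) ⊓ CfsgLib.Geom.Moebius.imL F₀ :
              Subgroup PGL(2, F₀))))
          fun c d h => Subtype.ext (e.injective (congrArg Subtype.val h))) hb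
      have h2 := (L.subgroupOf C).card_mul_index
      have h3 : (L.subgroupOf C).index ≤ 2 := by
        have : L.Normal := normal_of_index_eq_two hL2
        exact Nat.le_of_dvd two_pos ((relIndex_dvd_index_of_normal L C).trans hL2.dvd)
      have h5 : Nat.card (L.subgroupOf C) = Nat.card (L ⊓ C : Subgroup M) := by
        rw [← inf_subgroupOf_right]
        exact Nat.card_congr (subgroupOfEquivOfLe (inf_le_right : L ⊓ C ≤ C)).toEquiv
      calc Nat.card (centralizer ({t} : Set S2)) = Nat.card C :=
            (Nat.card_congr (subgroupOfEquivOfLe hlt.le).toEquiv).symm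
        _ = Nat.card (L.subgroupOf C) * (L.subgroupOf C).index := h2.symm
        _ ≤ (Fintype.card F₀ + 1) * 2 := Nat.mul_le_mul (h5 ▸ h1) h3
        _ = _ := mul_comm _ _
    have hge : Fintype.card F₀ ^ 2 - 1 ≤ 2 * (Fintype.card F₀ + 1) := by
      rw [← hc]
      rcases hcard with e' | e' <;> rw [e'] at hC2 <;> omega
    have : Fintype.card F₀ * 4 ≤ Fintype.card F₀ ^ 2 := by
      rw [pow_two]; exact Nat.mul_le_mul_left _ h4
    omega
  · -- `PSL₂` of a subfield
    have h0 := hF2 F₀ r hc hr.ne_zero
    have h3 : 3 ≤ r := by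
      rcases hr.two_le.eq_or_lt with h | h
      · rw [← h] at hr2; exact absurd hr2 (by decide)
      · exact h
    have hbig : Fintype.card F₀ ^ 3 ≤ Fintype.card F := hc ▸ Nat.pow_le_pow_right Fintype.card_pos h3
    rcases Nat.lt_or_ge (Fintype.card F₀) 4 with h | h
    · have h1 := Fintype.one_lt_card (α := F₀)
      obtain ⟨k, hk⟩ := h0
      have h03 : Fintype.card F₀ = 3 := by omega
      have h12 : Nat.card M = 12 := by
        rw [Nat.card_congr e.toEquiv, CfsgLib.Classical.card_psl_two_eq (F := F₀) h03 12 (by norm_num)]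
      rw [h03] at hbig
      have := card_le_of_le hlt.le
      rw [h12] at this
      rcases hcard with e' | e' <;> rw [e'] at this <;> norm_num at hbig <;> omega
    · have := card_centralizer_le_of_model e ht hlt.le (psl_centralizer_le h0 h)
      have h2 : Fintype.card F₀ * 16 ≤ Fintype.card F₀ ^ 3 := by
        rw [pow_succ', pow_two]
        exact Nat.mul_le_mul_left _ (Nat.mul_le_mul h h)
      rcases hcard with e' | e' <;> rw [e'] at this <;> omega
  · have := card_centralizer_le_of_model e ht hlt.le alt_five_centralizer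
    rcases hcard with e' | e' <;> rw [e'] at this <;> omega
  · have := card_centralizer_le_of_model e ht hlt.le alt_four_centralizer
    rcases hcard with e' | e' <;> rw [e'] at this <;> omega
  · have := card_centralizer_le_of_model e ht hlt.le perm_four_centralizer
    rcases hcard with e' | e' <;> rw [e'] at this <;> omega

end PSL

/-- `G` has no component and so is not simple. -/
theorem not_simple_of_no_component {G : Type u} [Group G] [Finite G] [IsSimpleGroup G]
    (hG : ¬ IsMulCommutative G)
    (h : Cfsg.generalizedFittingSubgroup G = Cfsg.fittingSubgroup G) : False := by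
  have hF : Cfsg.fittingSubgroup G = ⊥ := by
    have hnil := CfsgLib.Comp.isNilpotent_fittingSubgroup G
    have hn : (Cfsg.fittingSubgroup G).Normal := sSup_normal _ fun _ hN => hN.1
    rcases hn.eq_bot_or_eq_top with e | e
    · exact e
    · exfalso
      rw [e] at hnil
      have hGn : Group.IsNilpotent G := Group.nilpotent_of_mulEquiv topEquiv
      rcases (inferInstance : (Subgroup.center G).Normal).eq_bot_or_eq_top with e' | e'
      · obtain ⟨x, hx⟩ := exists_ne (1 : G)
        have : Nontrivial G := ⟨x, 1, hx⟩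
        exact (Group.IsNilpotent.center_ne_bot (G := G)) e'
      · exact hG ⟨⟨fun a b => (mem_center_iff.1 (e'.symm ▸ mem_top b : b ∈ Subgroup.center G) a)⟩⟩
  have h1 := CfsgLib.Comp.centralizer_generalizedFitting_le_fitting G
  rw [h, hF] at h1
  obtain ⟨x, hx⟩ := exists_ne (1 : G)
  exact hx (mem_bot.1 (h1 (mem_centralizer_iff.2 fun y hy => by rw [mem_bot.1 hy, one_mul, mul_one])))

/-- An involution centralizer properly contained in a subgroup without components. -/
theorem centralizer_not_maximal {G : Type u} [Group G] [Finite G] [IsSimpleGroup G]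
    (hGW : PerfectDihedral.{u}) (S : Sylow 2 G) (m : ℕ)
    (eS : ↥(S : Subgroup G) ≃* DihedralGroup m) (t : G) (ht : orderOf t = 2) (K : Subgroup G)
    (hlt : Subgroup.centralizer ({t} : Set G) < K)
    (hK : Cfsg.generalizedFittingSubgroup ↥K = Cfsg.fittingSubgroup ↥K) :
    Nonempty (G ≃* ↥(alternatingGroup (Fin 5))) ∨ Nonempty (G ≃* ↥(alternatingGroup (Fin 7))) ∨
      (∃ (F : Type) (_ : Field F) (_ : Fintype F), Fintype.card F = 2 ∧
        Nonempty (G ≃* Matrix.ProjectiveSpecialLinearGroup (Fin 3) F)) ∨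
      (∃ (F : Type) (_ : Field F) (_ : Fintype F), Fintype.card F = 9 ∧
        Nonempty (G ≃* Matrix.ProjectiveSpecialLinearGroup (Fin 2) F)) := by
  classical
  have hG : ¬ IsMulCommutative G := fun h => by
    refine (lt_of_lt_of_le hlt le_top).ne (eq_top_iff.2 fun x _ => ?_)
    exact mem_centralizer_singleton_iff.2 (mul_comm' x t)
  have hperf : commutator G = ⊤ :=
    (inferInstance : (commutator G).Normal).eq_bot_or_eq_top.resolve_left fun h =>
      hG ((commutator_eq_bot_iff G).1 h)
  have hm : 2 ≤ m := by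
    rcases m with _ | _ | m
    · exact absurd (Finite.of_equiv _ eS.toEquiv) (not_finite_iff_infinite.2 inferInstance)
    · exfalso
      have hc : Nat.card (S : Subgroup G) = 2 := by
        rw [Nat.card_congr eS.toEquiv, DihedralGroup.nat_card]
      have : Fact (Nat.Prime 2) := ⟨Nat.prime_two⟩
      have : IsCyclic (S : Subgroup G) := isCyclic_of_prime_card hc
      have := CfsgLib.SemisimpleFour.not_perfect_of_cyclic hperf S
      rw [this, card_bot] at hc
      omega
    · omega
  have : Group.IsPerfect G := ⟨hperf⟩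
  have hO : Cfsg.oddCore G = ⊥ := by
    rcases (Cfsg.pPrimeCore_normal 2 G).eq_bot_or_eq_top with e | e
    · exact e
    · exfalso
      have h1 : (Nat.card (Cfsg.oddCore G)).Coprime 2 := CfsgLib.Solvable.pPrimeCore_coprime 2
      rw [show Cfsg.oddCore G = (⊤ : Subgroup G) from e, Nat.card_congr topEquiv.toEquiv] at h1
      have h2 : 2 ∣ Nat.card G := ht ▸ orderOf_dvd_natCard t
      have := Nat.eq_one_of_dvd_coprimes h1 h2 dvd_rfl
      omega
  let eO : G ≃* G ⧸ Cfsg.oddCore G :=
    ((QuotientGroup.quotientMulEquivOfEq hO).trans QuotientGroup.quotientBot).symm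
  rcases hGW G S m hm ⟨eS⟩ with ⟨F, _, _, hodd, h3, ⟨f⟩⟩ | hf
  swap
  · exact Or.inr (Or.inl (hf.map fun f => eO.trans f))
  let e : G ≃* ProjectiveSpecialLinearGroup (Fin 2) F := eO.trans f
  by_cases h11 : 11 ≤ Fintype.card F
  · exfalso
    have ht' : orderOf (e t) = 2 := (e.orderOf_eq t).trans ht
    have hmap : centralizer ({e t} : Set (ProjectiveSpecialLinearGroup (Fin 2) F)) <
        K.map e.toMonoidHom := by
      have hc : (centralizer ({t} : Set G)).map e.toMonoidHom =
          centralizer ({e t} : Set (ProjectiveSpecialLinearGroup (Fin 2) F)) := by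
        ext x
        constructor
        · rintro ⟨y, hy, rfl⟩
          rw [mem_centralizer_singleton_iff]
          change e y * e t = e t * e y
          rw [← map_mul, ← map_mul, mem_centralizer_singleton_iff.1 hy]
        · intro hx
          refine ⟨e.symm x, mem_centralizer_singleton_iff.2 (e.injective ?_), e.apply_symm_apply x⟩
          rw [map_mul, map_mul, e.apply_symm_apply]
          exact mem_centralizer_singleton_iff.1 hx
      rw [← hc]
      exact map_lt_map_iff_of_injective e.injective |>.2 hlt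
    have htop := centralizer_maximal hodd h11 ht' hmap
    have hKtop : K = ⊤ := by
      rw [← map_top_of_surjective e.toMonoidHom e.surjective] at htop
      exact map_injective e.injective htop
    subst hKtop
    have hs : IsSimpleGroup (⊤ : Subgroup G) :=
      IsSimpleGroup.isSimpleGroup_of_surjective (topEquiv (G := G)).symm.toMonoidHom
        (topEquiv (G := G)).symm.surjective
    refine not_simple_of_no_component (G := (⊤ : Subgroup G)) (fun h => hG ⟨⟨fun a b => ?_⟩⟩) hK
    exact congrArg Subtype.val (mul_comm' (⟨a, mem_top a⟩ : (⊤ : Subgroup G)) ⟨b, mem_top b⟩)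
  have hcases : Fintype.card F = 5 ∨ Fintype.card F = 7 ∨ Fintype.card F = 9 := by
    obtain ⟨i, hi⟩ := hodd
    omega
  rcases hcases with h | h | h
  · have : Fact (Nat.Prime 5) := ⟨by norm_num⟩
    obtain ⟨f5⟩ := CfsgLib.Classical.psl_two_five_equiv
    let r : F ≃+* ZMod 5 := FiniteField.ringEquivOfCardEq (K := F) (K' := ZMod 5) (h.trans (ZMod.card 5).symm)
    exact Or.inl ⟨(e.trans (CfsgLib.Geom.Moebius.pslCongr r)).trans f5⟩
  · have : Fact (Nat.Prime 7) := ⟨by norm_num⟩
    obtain ⟨f7⟩ := CfsgLib.Classical.psl_two_seven_equiv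
    let r : F ≃+* ZMod 7 := FiniteField.ringEquivOfCardEq (K := F) (K' := ZMod 7) (h.trans (ZMod.card 7).symm)
    exact Or.inr (Or.inr (Or.inl ⟨ZMod 2, inferInstance, inferInstance, ZMod.card 2,
      ⟨(e.trans (CfsgLib.Geom.Moebius.pslCongr r)).trans f7⟩⟩))
  · exact Or.inr (Or.inr (Or.inr ⟨F, inferInstance, inferInstance, h, ⟨e⟩⟩))

end CfsgLib.Recog.GW
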