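import Cfsg.Agent.Lib.Recog.GW.Gen.AltSeven
import Cfsg.Agent.Lib.Recog.GW.Reduce
import Cfsg.Agent.Lib.Invol.SemisimpleFour.Main

/-!
Two commuting involutions acting on a simple group with dihedral Sylow 2-subgroups whose centralizers
there have cyclic Sylow 2-subgroups: either the centralizers generate, or the product centralizes,
from the classification of simple groups with dihedral Sylow 2-subgroups.
-/

set_option autoImplicit false
set_option linter.unusedSectionVars false
set_option linter.style.haveILetI false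

namespace CfsgLib.Recog.GW

open Subgroup CfsgLib.Recog.GW.Gen

universe u

/-- A group with cyclic Sylow 2-subgroups has no four-group. -/
theorem no_four_of_cyclic {C : Type*} [Group C] [Finite C] (h : ∀ R : Sylow 2 C, IsCyclic R)
    {i j : C} (hi : orderOf i = 2) (hj : orderOf j = 2) (hij : Commute i j) : i = j := by
  haveI : Fact (Nat.Prime 2) := ⟨Nat.prime_two⟩
  have hPi : IsPGroup 2 (zpowers i) :=
    IsPGroup.of_card (n := 1) (by rw [Nat.card_zpowers, hi, pow_one])
  have hPj : IsPGroup 2 (zpowers j) :=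
    IsPGroup.of_card (n := 1) (by rw [Nat.card_zpowers, hj, pow_one])
  have hle : zpowers i ≤ normalizer ((zpowers j : Subgroup C) : Set C) := by
    refine le_trans ?_ (centralizer_le_normalizer _)
    rw [zpowers_le, zpowers_eq_closure, centralizer_closure, mem_centralizer_singleton_iff]
    exact hij
  obtain ⟨R, hR⟩ := (hPi.to_sup_of_normal_right' hPj hle).exists_le_sylow
  have := h R
  set i' : R := ⟨i, hR (mem_sup_left (mem_zpowers i))⟩
  set j' : R := ⟨j, hR (mem_sup_right (mem_zpowers j))⟩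
  have hi' : orderOf i' = 2 := (orderOf_mk i _).trans hi
  have hj' : orderOf j' = 2 := (orderOf_mk j _).trans hj
  by_contra hne
  haveI : Fintype R := Fintype.ofFinite R
  classical
  have hle : ({1, i', j'} : Finset R).card ≤ 2 := by
    refine le_trans (Finset.card_le_card fun x hx => ?_) (IsCyclic.card_pow_eq_one_le two_pos)
    simp only [Finset.mem_insert, Finset.mem_singleton] at hx
    refine Finset.mem_filter.2 ⟨Finset.mem_univ _, ?_⟩
    rcases hx with rfl | rfl | rfl
    · exact one_pow 2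
    · rw [pow_two]; exact Gen.mul_self_of_orderOf hi'
    · rw [pow_two]; exact Gen.mul_self_of_orderOf hj'
  have h1 : (1 : R) ≠ i' := fun e => by rw [← e, orderOf_one] at hi'; omega
  have h2 : (1 : R) ≠ j' := fun e => by rw [← e, orderOf_one] at hj'; omega
  have h3 : i' ≠ j' := fun e => hne (congrArg Subtype.val e)
  simp [h1, h2, h3] at hle

/-- **The generation lemma from the simple dihedral theorem.** -/
theorem centralizes_of_not_generated {G : Type u} [Group G] [Finite G] (L : Subgroup G)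
    (hGW : SimpleGW.{u} (Nat.card L)) (hL : IsSimpleGroup L) (hLn : ¬ IsMulCommutative L)
    (hD : ∀ P : Sylow 2 L, ∃ n : ℕ, Nonempty (↥(P : Subgroup L) ≃* DihedralGroup n))
    (a b : G) (ha : orderOf a = 2) (hb : orderOf b = 2) (hc : a * b = b * a)
    (haL : a ∈ Subgroup.normalizer (L : Set G)) (hbL : b ∈ Subgroup.normalizer (L : Set G))
    (hCa : ∀ R : Sylow 2 ↥(L ⊓ Subgroup.centralizer ({a} : Set G)), IsCyclic R)
    (hCb : ∀ R : Sylow 2 ↥(L ⊓ Subgroup.centralizer ({b} : Set G)), IsCyclic R)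
    (hgen : ¬ L ≤ Subgroup.closure ({a, b} : Set G) ⊔ (L ⊓ Subgroup.centralizer ({a} : Set G)) ⊔
      (L ⊓ Subgroup.centralizer ({b} : Set G))) :
    a * b ∈ Subgroup.centralizer (L : Set G) := by
  classical
  haveI : Fact (Nat.Prime 2) := ⟨Nat.prime_two⟩
  let T : Sylow 2 L := default
  obtain ⟨n, ⟨eT⟩⟩ := hD T
  have hperf : commutator L = ⊤ :=
    (inferInstance : (commutator L).Normal).eq_bot_or_eq_top.resolve_left fun h =>
      hLn ((commutator_eq_bot_iff L).1 h)
  have hn : 2 ≤ n := by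
    rcases n with _ | _ | n
    · exact absurd (Finite.of_equiv _ eT.toEquiv) (not_finite_iff_infinite.2 inferInstance)
    · exfalso
      have hc : Nat.card (T : Subgroup L) = 2 := by
        rw [Nat.card_congr eT.toEquiv, DihedralGroup.nat_card]
      have : IsCyclic (T : Subgroup L) := isCyclic_of_prime_card hc
      have := CfsgLib.SemisimpleFour.not_perfect_of_cyclic hperf T
      rw [this, card_bot] at hc
      omega
    · omega
  obtain ⟨D⟩ := CfsgLib.Invol.exists_dihData T.2 hn eT
  have hmodel := hGW L hL hLn le_rfl T ⟨D⟩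
  -- the action of the normalizer on a copy of `L`
  set N := normalizer (L : Set G) with hN
  let κ : ↥N →* MulAut L := L.normalizerMonoidHom
  have hκ : ∀ (m : ↥N) (l : L), ((κ m l : L) : G) = (m : G) * l * (m : G)⁻¹ := fun m l => rfl
  have h2 : ∀ {x : G}, orderOf x = 2 → x * x = 1 := fun h => Gen.mul_self_of_orderOf h
  set α := κ ⟨a, haL⟩ with hαdef
  set β := κ ⟨b, hbL⟩ with hβdef
  have hα2 : α * α = 1 := by
    rw [hαdef, ← map_mul, show (⟨a, haL⟩ * ⟨a, haL⟩ : ↥N) = 1 from Subtype.ext (h2 ha), map_one]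
  have hβ2 : β * β = 1 := by
    rw [hβdef, ← map_mul, show (⟨b, hbL⟩ * ⟨b, hbL⟩ : ↥N) = 1 from Subtype.ext (h2 hb), map_one]
  have hαβ : Commute α β := by
    show κ _ * κ _ = κ _ * κ _
    rw [← map_mul, ← map_mul]
    exact congrArg κ (Subtype.ext hc)
  have hfixC : ∀ (x : G) (hx : x ∈ N) (l : L), κ ⟨x, hx⟩ l = l ↔
      (l : G) ∈ L ⊓ centralizer ({x} : Set G) := by
    intro x hx l
    rw [mem_inf, mem_centralizer_singleton_iff, Subtype.ext_iff, hκ, mul_inv_eq_iff_eq_mul]
    exact ⟨fun e => ⟨l.2, e.symm⟩, fun e => e.2.symm⟩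
  have hnofour : ∀ (x : G) (hx : x ∈ N),
      (∀ R : Sylow 2 ↥(L ⊓ centralizer ({x} : Set G)), IsCyclic R) → NoFour (κ ⟨x, hx⟩) := by
    intro x hx hR i j hi hj hi2 hj2 hi1 hj1 hij hcm
    have hord : ∀ (l : L) (hl : (l : G) ∈ L ⊓ centralizer ({x} : Set G)), l * l = 1 → l ≠ 1 →
        orderOf (⟨(l : G), hl⟩ : ↥(L ⊓ centralizer ({x} : Set G))) = 2 := fun l hl h h1 => by
      rw [orderOf_mk, orderOf_coe]
      exact orderOf_eq_prime (by rw [pow_two, h]) h1
    have := no_four_of_cyclic hR (hord i ((hfixC x hx i).1 hi) hi2 hi1)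
      (hord j ((hfixC x hx j).1 hj) hj2 hj1)
      (Subtype.ext (congrArg (fun l : L => (l : G)) hcm.eq))
    exact hij (Subtype.ext (congrArg (fun l : ↥(L ⊓ centralizer ({x} : Set G)) => (l : G)) this))
  by_cases hne : α = β
  · rw [mem_centralizer_iff]
    intro l hl
    have hm : κ (⟨a, haL⟩ * ⟨b, hbL⟩) = 1 := by
      rw [map_mul, ← hαdef, ← hβdef, hne, hβ2]
    have h := congrArg (fun l : L => (l : G)) (DFunLike.congr_fun hm ⟨l, hl⟩)
    simp only [hκ, MulAut.one_apply, Subgroup.coe_mul] at h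
    exact (mul_inv_eq_iff_eq_mul.1 h).symm
  exfalso
  apply hgen
  set H := closure ({a, b} : Set G) ⊔ (L ⊓ centralizer ({a} : Set G)) ⊔
    (L ⊓ centralizer ({b} : Set G)) with hH
  have hcl : closure ({a, b} : Set G) ≤ H := le_sup_left.trans le_sup_left
  have haH : a ∈ H := hcl (subset_closure (Set.mem_insert a _))
  have hbH : b ∈ H := hcl (subset_closure (Set.mem_insert_of_mem _ rfl))
  set K : Subgroup L := H.subgroupOf L with hK
  suffices hKtop : K = ⊤ by exact subgroupOf_eq_top.1 hKtop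
  have hstab : ∀ (x : G) (hx : x ∈ N), x ∈ H → ∀ l : L, κ ⟨x, hx⟩ l ∈ K ↔ l ∈ K := by
    intro x hx hxH l
    rw [hK, mem_subgroupOf, mem_subgroupOf, hκ]
    exact ⟨fun h => by simpa [mul_assoc] using mul_mem (mul_mem (inv_mem hxH) h) hxH,
      fun h => mul_mem (mul_mem hxH h) (inv_mem hxH)⟩
  have hfa : ∀ l, α l = l → l ∈ K := fun l hl =>
    mem_subgroupOf.2 ((le_sup_right.trans le_sup_left : L ⊓ centralizer ({a} : Set G) ≤ H)
      ((hfixC a haL l).1 hl))
  have hfb : ∀ l, β l = l → l ∈ K := fun l hl =>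
    mem_subgroupOf.2 ((le_sup_right : L ⊓ centralizer ({b} : Set G) ≤ H) ((hfixC b hbL l).1 hl))
  have hna := hnofour a haL hCa
  have hnb := hnofour b hbL hCb
  rcases hmodel with ⟨F, _, _, hodd, h3, ⟨e⟩⟩ | ⟨⟨e⟩⟩
  swap
  · exfalso
    refine not_noFour_altSeven (α := MulAut.congr e α) ?_ ?_
    · rw [← map_mul, hα2, map_one]
    · intro i j hi hj hi2 hj2 hi1 hj1 hij hcm
      refine hna (e.symm i) (e.symm j) ?_ ?_ (by rw [← map_mul, hi2, map_one])
        (by rw [← map_mul, hj2, map_one]) (fun h => hi1 (e.symm.map_eq_one_iff.1 h))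
        (fun h => hj1 (e.symm.map_eq_one_iff.1 h)) (fun h => hij (e.symm.injective h))
        (hcm.map e.symm.toMonoidHom)
      · exact e.injective (hi.trans (e.apply_symm_apply i).symm)
      · exact e.injective (hj.trans (e.apply_symm_apply j).symm)
  have h5 : 5 ≤ Fintype.card F := by
    obtain ⟨k, hk⟩ := hodd; omega
  have hS : IsSimpleGroup (Matrix.ProjectiveSpecialLinearGroup (Fin 2) F) := by
    haveI : Nontrivial (Matrix.ProjectiveSpecialLinearGroup (Fin 2) F) :=
      e.symm.toEquiv.nontrivial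
    exact IsSimpleGroup.isSimpleGroup_of_surjective e.toMonoidHom e.surjective
  have hconj : ∀ (γ : MulAut L), NoFour γ → NoFour (MulAut.congr e γ) := by
    intro γ hγ i j hi hj hi2 hj2 hi1 hj1 hij hcm
    refine hγ (e.symm i) (e.symm j) ?_ ?_ (by rw [← map_mul, hi2, map_one])
      (by rw [← map_mul, hj2, map_one]) (fun h => hi1 (e.symm.map_eq_one_iff.1 h))
      (fun h => hj1 (e.symm.map_eq_one_iff.1 h)) (fun h => hij (e.symm.injective h))
      (hcm.map e.symm.toMonoidHom)
    · exact e.injective (hi.trans (e.apply_symm_apply i).symm)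
    · exact e.injective (hj.trans (e.apply_symm_apply j).symm)
  have hmem : ∀ (γ : MulAut L), (∀ l, γ l ∈ K ↔ l ∈ K) →
      MulAut.congr e γ ∈ Gen.stab (K.map e.toMonoidHom) := by
    intro γ hγ x
    obtain ⟨l, rfl⟩ := e.surjective x
    rw [mem_map_equiv, mem_map_equiv, e.symm_apply_apply]
    show e.symm (e (γ (e.symm (e l)))) ∈ K ↔ _
    rw [e.symm_apply_apply, e.symm_apply_apply]
    exact hγ l
  have hfix : ∀ (γ : MulAut L), (∀ l, γ l = l → l ∈ K) →
      ∀ x, MulAut.congr e γ x = x → x ∈ K.map e.toMonoidHom := by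
    intro γ hγ x hx
    rw [mem_map_equiv]
    exact hγ _ (e.injective (hx.trans (e.apply_symm_apply x).symm))
  have htop := Gen.psl_pair hodd h5 (α := MulAut.congr e α) (β := MulAut.congr e β)
    (by rw [← map_mul, hα2, map_one]) (by rw [← map_mul, hβ2, map_one])
    (hαβ.map (MulAut.congr e).toMonoidHom) (hconj α hna) (hconj β hnb)
    (fun h => hne ((MulAut.congr e).injective h)) hS (K.map e.toMonoidHom)
    (hmem α (hstab a haL haH)) (hmem β (hstab b hbL hbH)) (hfix α hfa) (hfix β hfb)
  rw [← Subgroup.map_top_of_surjective e.toMonoidHom e.surjective] at htop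
  exact map_injective e.injective htop

end CfsgLib.Recog.GW
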