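import Cfsg.Agent.Lib.Recog.GW.OuterPairField
import Cfsg.Agent.Lib.InvChar.AltPreservingAut

/-!
Every automorphism of order at most two of `Alt(7)` fixes a four-group.
-/

set_option autoImplicit false

namespace CfsgLib.Recog.GW

open Equiv Equiv.Perm

local notation "A7" => alternatingGroup (Fin 7)

/-- A permutation commuting with `(012)(345)`, from the images of `0` and `3`. -/
def threeCommFun (a b : Fin 7) : Fin 7 → Fin 7 :=
  let r : Equiv.Perm (Fin 7) := swap (0 : Fin 7) 1 * swap 1 2 * (swap 3 4 * swap 4 5)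
  ![a, r a, r (r a), b, r b, r (r b), 6]

theorem threeCommFun_invol : ∀ a b : Fin 7, (∀ x, threeCommFun a b (threeCommFun a b x) = x) →
    (∀ x, threeCommFun a b x = x) ∨
    (∀ x, threeCommFun a b x = (swap (0 : Fin 7) 3 * swap 1 4 * swap 2 5 : Equiv.Perm (Fin 7)) x) ∨
    (∀ x, threeCommFun a b x = (swap (0 : Fin 7) 4 * swap 1 5 * swap 2 3 : Equiv.Perm (Fin 7)) x) ∨
    (∀ x, threeCommFun a b x = (swap (0 : Fin 7) 5 * swap 1 3 * swap 2 4 : Equiv.Perm (Fin 7)) x) := by
  decide +kernel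

theorem double_three_no_invol (i : Equiv.Perm (Fin 7)) (hi : i * i = 1)
    (hs : Equiv.Perm.sign i = 1)
    (hc : (swap (0 : Fin 7) 1 * swap 1 2 * (swap 3 4 * swap 4 5)) * i =
      i * (swap (0 : Fin 7) 1 * swap 1 2 * (swap 3 4 * swap 4 5))) : i = 1 := by
  set r : Equiv.Perm (Fin 7) := swap (0 : Fin 7) 1 * swap 1 2 * (swap 3 4 * swap 4 5) with hr
  have hx : ∀ x, r (i x) = i (r x) := fun x => Equiv.congr_fun hc x
  have h6 : i 6 = 6 := by
    have h := hx 6
    rw [show r 6 = 6 by rw [hr]; decide +kernel] at h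
    revert h
    rw [hr]
    generalize i 6 = y
    revert y
    decide +kernel
  have hf : ∀ x, i x = threeCommFun (i 0) (i 3) x := by
    intro x
    have e0 : r 0 = 1 := by rw [hr]; decide +kernel
    have e1 : r 1 = 2 := by rw [hr]; decide +kernel
    have e3 : r 3 = 4 := by rw [hr]; decide +kernel
    have e4 : r 4 = 5 := by rw [hr]; decide +kernel
    show i x = ![i 0, r (i 0), r (r (i 0)), i 3, r (i 3), r (r (i 3)), 6] x
    fin_cases x <;> simp [hx, e0, e1, e3, e4, h6]
  rcases threeCommFun_invol (i 0) (i 3) (fun x => by rw [← hf, ← hf]; exact Equiv.congr_fun hi x) with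
    h | h | h | h
  · exact Equiv.ext fun x => (hf x).trans (h x)
  all_goals
    rw [Equiv.ext (fun x => (hf x).trans (h x))] at hs
    exact absurd hs (by decide +kernel)

theorem cycleType_cube {y : Equiv.Perm (Fin 7)} (h : y * y * y = 1) (h1 : y ≠ 1) :
    y.cycleType = {3} ∨ y.cycleType = {3, 3} := by
  have ho : orderOf y = 3 := orderOf_eq_prime (by rw [pow_three', h]) h1
  obtain ⟨n, hn⟩ := cycleType_prime_order (σ := y) (by rw [ho]; exact Nat.prime_three)
  rw [ho] at hn
  have hsum : y.cycleType.sum ≤ 7 := by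
    rw [sum_cycleType]
    exact (Finset.card_le_univ _).trans (by simp)
  rw [hn, Multiset.sum_replicate, smul_eq_mul] at hsum
  have : n = 0 ∨ n = 1 := by omega
  rcases this with rfl | rfl
  · exact Or.inl hn
  · exact Or.inr hn

theorem cycleType_invol {g : Equiv.Perm (Fin 7)} (h : g * g = 1) :
    g = 1 ∨ g.cycleType = {2} ∨ g.cycleType = {2, 2} ∨ g.cycleType = {2, 2, 2} := by
  by_cases h1 : g = 1
  · exact Or.inl h1
  right
  have ho : orderOf g = 2 := orderOf_eq_prime (by rw [pow_two, h]) h1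
  obtain ⟨n, hn⟩ := cycleType_prime_order (σ := g) (by rw [ho]; exact Nat.prime_two)
  rw [ho] at hn
  have hsum : g.cycleType.sum ≤ 7 := by
    rw [sum_cycleType]
    exact (Finset.card_le_univ _).trans (by simp)
  rw [hn, Multiset.sum_replicate, smul_eq_mul] at hsum
  have : n = 0 ∨ n = 1 ∨ n = 2 := by omega
  rcases this with rfl | rfl | rfl
  · exact Or.inl hn
  · exact Or.inr (Or.inl hn)
  · exact Or.inr (Or.inr hn)

/-- An automorphism of `Alt(7)` preserves three-cycles. -/
theorem alt_seven_preserves (φ : MulAut A7) (x : A7) (hx : (x : Equiv.Perm (Fin 7)).IsThreeCycle) :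
    (φ x : Equiv.Perm (Fin 7)).IsThreeCycle := by
  -- a three-cycle commutes with an even involution
  let r0 : Equiv.Perm (Fin 7) := swap (0 : Fin 7) 1 * swap 1 2
  have hr0 : r0.IsThreeCycle := by
    rw [← card_support_eq_three_iff]; decide +kernel
  obtain ⟨c, hc⟩ := isConj_iff.1 (isConj_iff_cycleType_eq.2 (hr0.cycleType.trans hx.cycleType.symm))
  let i : A7 := ⟨c * (swap 3 4 * swap 5 6) * c⁻¹, by
    rw [Equiv.Perm.mem_alternatingGroup, map_mul, map_mul, map_inv, mul_comm (Equiv.Perm.sign c),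
      mul_inv_cancel_right]
    decide +kernel⟩
  have hi2 : i * i = 1 := Subtype.ext (by
    show c * (swap 3 4 * swap 5 6) * c⁻¹ * (c * (swap 3 4 * swap 5 6) * c⁻¹) = 1
    have h : (swap (3 : Fin 7) 4 * swap 5 6) * (swap 3 4 * swap 5 6) = 1 := by decide +kernel
    calc c * (swap 3 4 * swap 5 6) * c⁻¹ * (c * (swap 3 4 * swap 5 6) * c⁻¹) =
        c * ((swap 3 4 * swap 5 6) * (swap 3 4 * swap 5 6)) * c⁻¹ := by group
      _ = 1 := by rw [h, mul_one, mul_inv_cancel])
  have hi1 : i ≠ 1 := fun h => by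
    have h1 : c * (swap 3 4 * swap 5 6) * c⁻¹ = 1 := congrArg Subtype.val h
    rw [mul_inv_eq_one, mul_eq_left] at h1
    exact absurd h1 (by decide +kernel)
  have hix : x * i = i * x := Subtype.ext (by
    show (x : Equiv.Perm (Fin 7)) * (c * (swap 3 4 * swap 5 6) * c⁻¹) =
      c * (swap 3 4 * swap 5 6) * c⁻¹ * (x : Equiv.Perm (Fin 7))
    rw [← hc]
    have h : r0 * (swap 3 4 * swap 5 6) = (swap 3 4 * swap 5 6) * r0 := by decide +kernel
    calc c * r0 * c⁻¹ * (c * (swap 3 4 * swap 5 6) * c⁻¹) =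
        c * (r0 * (swap 3 4 * swap 5 6)) * c⁻¹ := by group
      _ = _ := by rw [h]; group)
  have h3 : x * x * x = 1 := Subtype.ext (by
    show (x : Equiv.Perm (Fin 7)) * x * x = 1
    rw [← pow_three', ← hx.orderOf, pow_orderOf_eq_one])
  have hy3 : (φ x : Equiv.Perm (Fin 7)) * φ x * φ x = 1 := by
    have := congrArg Subtype.val (congrArg φ h3)
    simpa using this
  have hy1 : (φ x : Equiv.Perm (Fin 7)) ≠ 1 := fun h => hx.ne_one (by
    have : x = 1 := φ.injective (by rw [map_one]; exact Subtype.ext h)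
    rw [this]; rfl)
  rcases cycleType_cube hy3 hy1 with h | h
  · exact h
  exfalso
  -- a product of two three-cycles does not
  obtain ⟨e, he⟩ := isConj_iff.1 ((isConj_iff_cycleType_eq (σ := (φ x : Equiv.Perm (Fin 7)))
    (τ := swap (0 : Fin 7) 1 * swap 1 2 * (swap 3 4 * swap 4 5))).2 (h.trans (by decide +kernel)))
  let j : Equiv.Perm (Fin 7) := (φ i : A7)
  have hjx : (φ x : Equiv.Perm (Fin 7)) * j = j * φ x := by
    have := congrArg Subtype.val (congrArg φ hix)
    simpa using this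
  have hjj : j * j = 1 := by
    have := congrArg Subtype.val (congrArg φ hi2)
    simpa using this
  have key := double_three_no_invol (e * j * e⁻¹)
    (by calc e * j * e⁻¹ * (e * j * e⁻¹) = e * (j * j) * e⁻¹ := by group
          _ = 1 := by rw [hjj, mul_one, mul_inv_cancel])
    (by rw [map_mul, map_mul, map_inv, mul_comm (Equiv.Perm.sign e), mul_inv_cancel_right]
        exact (φ i).2)
    (by rw [← he]
        calc e * (φ x : Equiv.Perm (Fin 7)) * e⁻¹ * (e * j * e⁻¹) = e * ((φ x : Equiv.Perm (Fin 7)) * j) * e⁻¹ := by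
              group
          _ = _ := by rw [hjx]; group)
  rw [mul_inv_eq_one, mul_eq_left] at key
  exact hi1 (φ.injective (by rw [map_one]; exact Subtype.ext key))

/-- A pair fixed by the conjugation by a representative. -/
theorem fourFix_rep {r p s : Equiv.Perm (Fin 7)} (c : Equiv.Perm (Fin 7)) (hp : Equiv.Perm.sign p = 1)
    (hs : Equiv.Perm.sign s = 1) (h : p * p = 1 ∧ s * s = 1 ∧ p ≠ 1 ∧ s ≠ 1 ∧ p ≠ s ∧ p * s = s * p ∧
      r * p = p * r ∧ r * s = s * r) :
    FourFix (MulAut.conjNormal (H := A7) (c * r * c⁻¹)) := by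
  obtain ⟨hpp, hss, hp1, hs1, hne, hps, hrp, hrs⟩ := h
  let cj : MulAut (Equiv.Perm (Fin 7)) := MulAut.conj c
  have hmem : ∀ {z}, Equiv.Perm.sign z = 1 → cj z ∈ A7 := fun {z} hz => by
    rw [Equiv.Perm.mem_alternatingGroup, MulAut.conj_apply, map_mul, map_mul, map_inv,
      mul_comm (Equiv.Perm.sign c), mul_inv_cancel_right, hz]
  refine ⟨⟨cj p, hmem hp⟩, ⟨cj s, hmem hs⟩, ?_, ?_, Subtype.ext ?_, fun e => ?_, Subtype.ext ?_,
    Subtype.ext ?_⟩
  · rw [← Subgroup.orderOf_coe, MulEquiv.orderOf_eq]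
    exact orderOf_eq_prime (by rw [pow_two, hpp]) hp1
  · rw [← Subgroup.orderOf_coe, MulEquiv.orderOf_eq]
    exact orderOf_eq_prime (by rw [pow_two, hss]) hs1
  · show cj p * cj s = cj s * cj p
    rw [← map_mul, hps, map_mul]
  · exact hne (cj.injective (congrArg Subtype.val e))
  · rw [MulAut.conjNormal_apply]
    show MulAut.conj (MulAut.conj c r) (cj p) = cj p
    rw [MulAut.conj_apply, ← map_inv, ← map_mul, ← map_mul, hrp, mul_inv_cancel_right]
  · rw [MulAut.conjNormal_apply]
    show MulAut.conj (MulAut.conj c r) (cj s) = cj s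
    rw [MulAut.conj_apply, ← map_inv, ← map_mul, ← map_mul, hrs, mul_inv_cancel_right]

theorem fourFix_alt_seven {α : MulAut A7} (hα : α * α = 1) : FourFix α := by
  obtain ⟨g, rfl⟩ := CfsgLib.InvChar.exists_perm_of_preserves_threeCycles (by norm_num) α
    (alt_seven_preserves α)
  have hg : g * g = 1 := CfsgLib.InvChar.conjNormal_injective (n := 7) (by norm_num)
    (by rw [map_mul, hα, map_one])
  rcases cycleType_invol hg with rfl | h | h | h
  · have e : (1 : Equiv.Perm (Fin 7)) = 1 * 1 * 1⁻¹ := by group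
    rw [e]
    exact fourFix_rep (p := swap (0 : Fin 7) 1 * swap 2 3) (s := swap (0 : Fin 7) 2 * swap 1 3) 1
      (by decide +kernel) (by decide +kernel) (by decide +kernel)
  · obtain ⟨c, rfl⟩ := isConj_iff.1 ((isConj_iff_cycleType_eq (σ := swap (0 : Fin 7) 1)).2
      ((show (swap (0 : Fin 7) 1).cycleType = {2} by decide +kernel).trans h.symm))
    exact fourFix_rep (p := swap (2 : Fin 7) 3 * swap 4 5) (s := swap (2 : Fin 7) 4 * swap 3 5) c
      (by decide +kernel) (by decide +kernel) (by decide +kernel)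
  · obtain ⟨c, rfl⟩ := isConj_iff.1 ((isConj_iff_cycleType_eq (σ := swap (0 : Fin 7) 1 * swap 2 3)).2
      ((show (swap (0 : Fin 7) 1 * swap 2 3).cycleType = {2, 2} by decide +kernel).trans h.symm))
    exact fourFix_rep (p := swap (0 : Fin 7) 1 * swap 2 3) (s := swap (0 : Fin 7) 2 * swap 1 3) c
      (by decide +kernel) (by decide +kernel) (by decide +kernel)
  · obtain ⟨c, rfl⟩ := isConj_iff.1 ((isConj_iff_cycleType_eq (σ := swap (0 : Fin 7) 1 * swap 2 3 * swap 4 5)).2
      ((show (swap (0 : Fin 7) 1 * swap 2 3 * swap 4 5).cycleType = {2, 2, 2} by decide +kernel).trans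
        h.symm))
    exact fourFix_rep (p := swap (0 : Fin 7) 1 * swap 2 3) (s := swap (0 : Fin 7) 2 * swap 1 3) c
      (by decide +kernel) (by decide +kernel) (by decide +kernel)

end CfsgLib.Recog.GW
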