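import Cfsg.Agent.Lib.Recog.GW.OuterPairPSL
import Cfsg.Agent.Lib.Recog.GW.OuterPairAlt

/-!
Commuting involutions acting on a simple group with dihedral Sylow 2-subgroups, with cyclic
Sylow 2-subgroups in both centralizers: the product centralizes, from the dihedral theorem.
-/

set_option autoImplicit false
set_option linter.unusedSectionVars false

namespace CfsgLib.Recog.GW

open Subgroup

universe u

theorem map_fixAut_congr {L A : Type*} [Group L] [Group A] (e : L ≃* A) (α : MulAut L) :
    (fixAut α).map e.toMonoidHom = fixAut (MulAut.congr e α) := by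
  ext x
  constructor
  · rintro ⟨y, hy, rfl⟩
    rw [mem_fixAut]
    show e (α (e.symm (e y))) = e y
    rw [e.symm_apply_apply, mem_fixAut.1 hy]
  · intro hx
    refine ⟨e.symm x, mem_fixAut.2 (e.injective ?_), e.apply_symm_apply x⟩
    rw [e.apply_symm_apply]
    exact hx

theorem cycFix_congr {L A : Type*} [Group L] [Group A] (e : L ≃* A) {α : MulAut L} (hC : CycFix α) :
    CycFix (MulAut.congr e α) := by
  intro W hW hWle
  have h1 : W.comap e.toMonoidHom ≤ fixAut α := fun y hy => by
    have h2 : e (α (e.symm (e y))) = e y := hWle hy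
    rw [e.symm_apply_apply] at h2
    exact mem_fixAut.2 (e.injective h2)
  have h3 := hC _ (hW.comap_of_injective e.toMonoidHom e.injective) h1
  exact ((equivMapOfInjective (W.comap e.toMonoidHom) e.toMonoidHom e.injective).trans
    (MulEquiv.subgroupCongr (map_comap_eq_self_of_surjective e.surjective W))).isCyclic.1 h3

/-- Automorphisms of `PSL₂(q)` or `Alt(7)`, moved to an isomorphic group. -/
theorem eq_of_congr {L A : Type*} [Group L] [Group A] (e : L ≃* A)
    (h : ∀ α β : MulAut A, α * α = 1 → β * β = 1 → α * β = β * α → CycFix α → CycFix β →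
      fixAut α ⊔ fixAut β ≠ ⊤ → α = β)
    {α β : MulAut L} (hα : α * α = 1) (hβ : β * β = 1) (hc : α * β = β * α) (hCα : CycFix α)
    (hCβ : CycFix β) (hne : fixAut α ⊔ fixAut β ≠ ⊤) : α = β := by
  refine (MulAut.congr e).injective (h _ _ ?_ ?_ ?_ (cycFix_congr e hCα) (cycFix_congr e hCβ) ?_)
  · rw [← map_mul, hα, map_one]
  · rw [← map_mul, hβ, map_one]
  · rw [← map_mul, hc, map_mul]
  · rw [← map_fixAut_congr, ← map_fixAut_congr, ← Subgroup.map_sup,
      ← map_top_of_surjective e.toMonoidHom e.surjective]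
    exact fun h' => hne (map_injective e.injective h')

/-- Commuting involutory automorphisms of a simple group with dihedral Sylow 2-subgroups. -/
theorem eq_of_commute {L : Type u} [Group L] [Finite L] [IsSimpleGroup L]
    (hGW : PerfectDihedral.{u}) (hL : ¬ IsMulCommutative L) (S : Sylow 2 L) (m : ℕ)
    (eS : (S : Subgroup L) ≃* DihedralGroup m) {α β : MulAut L} (hα : α * α = 1) (hβ : β * β = 1)
    (hc : α * β = β * α) (hCα : CycFix α) (hCβ : CycFix β) (hne : fixAut α ⊔ fixAut β ≠ ⊤) :
    α = β := by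
  have hperf : commutator L = ⊤ :=
    (inferInstance : (commutator L).Normal).eq_bot_or_eq_top.resolve_left fun h =>
      hL ((commutator_eq_bot_iff L).1 h)
  have : Fact (Nat.Prime 2) := ⟨Nat.prime_two⟩
  have hm : 2 ≤ m := by
    rcases m with _ | _ | m
    · exact absurd (Finite.of_equiv _ eS.toEquiv) (not_finite_iff_infinite.2 inferInstance)
    · exfalso
      have hc : Nat.card (S : Subgroup L) = 2 := by
        rw [Nat.card_congr eS.toEquiv, DihedralGroup.nat_card]
      have : IsCyclic (S : Subgroup L) := isCyclic_of_prime_card hc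
      rw [CfsgLib.SemisimpleFour.not_perfect_of_cyclic hperf S, card_bot] at hc
      omega
    · omega
  have : Group.IsPerfect L := ⟨hperf⟩
  have hO : Cfsg.oddCore L = ⊥ := by
    rcases (Cfsg.pPrimeCore_normal 2 L).eq_bot_or_eq_top with e | e
    · exact e
    · exfalso
      have h1 : (Nat.card (Cfsg.oddCore L)).Coprime 2 := CfsgLib.Solvable.pPrimeCore_coprime 2
      rw [show Cfsg.oddCore L = (⊤ : Subgroup L) from e, Nat.card_congr topEquiv.toEquiv] at h1
      have h2 : 2 ∣ Nat.card L := by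
        have : 2 ∣ Nat.card (S : Subgroup L) := by
          rw [Nat.card_congr eS.toEquiv, DihedralGroup.nat_card]; exact dvd_mul_right 2 m
        exact this.trans (card_subgroup_dvd_card _)
      have := Nat.eq_one_of_dvd_coprimes h1 h2 dvd_rfl
      omega
  let eO : L ≃* L ⧸ Cfsg.oddCore L :=
    ((QuotientGroup.quotientMulEquivOfEq hO).trans QuotientGroup.quotientBot).symm
  rcases hGW L S m hm ⟨eS⟩ with ⟨F, _, _, hodd, h3, ⟨f⟩⟩ | hf
  · refine eq_of_congr (eO.trans f) (fun α β => psl_eq_of_commute hodd ?_) hα hβ hc hCα hCβ hne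
    obtain ⟨i, hi⟩ := hodd
    omega
  · obtain ⟨f⟩ := hf
    exact eq_of_congr (eO.trans f) (fun α β hα _ _ hC _ _ =>
      absurd (fourFix_alt_seven hα) (not_fourFix hC)) hα hβ hc hCα hCβ hne

/-- The automorphism induced on a normalized subgroup. -/
def conjOn {G : Type*} [Group G] (L : Subgroup G) {a : G} (ha : a ∈ normalizer (L : Set G)) :
    MulAut L where
  toFun y := ⟨a * y * a⁻¹, (mem_normalizer_iff.1 ha _).1 y.2⟩
  invFun y := ⟨a⁻¹ * y * a, (mem_normalizer_iff.1 ha _).2 (by
    simpa [mul_assoc] using y.2)⟩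
  left_inv y := Subtype.ext (show a⁻¹ * (a * y * a⁻¹) * a = y by group)
  right_inv y := Subtype.ext (show a * (a⁻¹ * y * a) * a⁻¹ = y by group)
  map_mul' y z := Subtype.ext (show a * (y * z) * a⁻¹ = a * y * a⁻¹ * (a * z * a⁻¹) by group)

theorem conjOn_apply {G : Type*} [Group G] (L : Subgroup G) {a : G}
    (ha : a ∈ normalizer (L : Set G)) (y : L) : (conjOn L ha y : G) = a * y * a⁻¹ := rfl

theorem map_fixAut_conjOn {G : Type*} [Group G] (L : Subgroup G) {a : G}
    (ha : a ∈ normalizer (L : Set G)) :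
    (fixAut (conjOn L ha)).map L.subtype = L ⊓ centralizer ({a} : Set G) := by
  ext x
  constructor
  · rintro ⟨y, hy, rfl⟩
    refine ⟨y.2, mem_centralizer_singleton_iff.2 ?_⟩
    have h : a * y * a⁻¹ = (y : G) := congrArg Subtype.val (mem_fixAut.1 hy)
    exact (mul_inv_eq_iff_eq_mul.1 h).symm
  · rintro ⟨hxL, hx⟩
    refine ⟨⟨x, hxL⟩, mem_fixAut.2 (Subtype.ext ?_), rfl⟩
    rw [conjOn_apply]
    show a * x * a⁻¹ = x
    rw [← mem_centralizer_singleton_iff.1 hx, mul_inv_cancel_right]

theorem cycFix_conjOn {G : Type*} [Group G] [Finite G] (L : Subgroup G) {a : G}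
    (ha : a ∈ normalizer (L : Set G))
    (hC : ∀ R : Sylow 2 ↥(L ⊓ centralizer ({a} : Set G)), IsCyclic R) : CycFix (conjOn L ha) := by
  intro W hW hWle
  set D := L ⊓ centralizer ({a} : Set G)
  have hle : W.map L.subtype ≤ D := (Subgroup.map_mono hWle).trans (map_fixAut_conjOn L ha).le
  have hp : IsPGroup 2 ((W.map L.subtype).subgroupOf D) :=
    (hW.map L.subtype).of_equiv (subgroupOfEquivOfLe hle).symm
  obtain ⟨R, hR⟩ := hp.exists_le_sylow
  have : IsCyclic R := hC R
  have h1 : IsCyclic ((W.map L.subtype).subgroupOf D) :=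
    (subgroupOfEquivOfLe hR).isCyclic.1 inferInstance
  exact (((equivMapOfInjective W L.subtype L.subtype_injective).trans
    (subgroupOfEquivOfLe hle).symm)).isCyclic.2 h1

/-- The product of two commuting involutions centralizes the simple group. -/
theorem product_centralizes {G : Type u} [Group G] [Finite G] (hGW : PerfectDihedral.{u})
    (L : Subgroup G) (hL : IsSimpleGroup L) (hLn : ¬ IsMulCommutative L)
    (hD : ∀ P : Sylow 2 L, ∃ n : ℕ, Nonempty (↥(P : Subgroup L) ≃* DihedralGroup n))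
    (a b : G) (ha : orderOf a = 2) (hb : orderOf b = 2) (hc : a * b = b * a)
    (haL : a ∈ Subgroup.normalizer (L : Set G)) (hbL : b ∈ Subgroup.normalizer (L : Set G))
    (hCa : ∀ R : Sylow 2 ↥(L ⊓ Subgroup.centralizer ({a} : Set G)), IsCyclic R)
    (hCb : ∀ R : Sylow 2 ↥(L ⊓ Subgroup.centralizer ({b} : Set G)), IsCyclic R)
    (hgen : ¬ L ≤ Subgroup.closure ({a, b} : Set G) ⊔ (L ⊓ Subgroup.centralizer ({a} : Set G)) ⊔
      (L ⊓ Subgroup.centralizer ({b} : Set G))) :
    a * b ∈ Subgroup.centralizer (L : Set G) := by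
  obtain ⟨S⟩ : Nonempty (Sylow 2 L) := inferInstance
  obtain ⟨m, ⟨eS⟩⟩ := hD S
  have haa : a * a = 1 := CfsgLib.Invol.invol_mul_self ha
  have hbb : b * b = 1 := CfsgLib.Invol.invol_mul_self hb
  have hsq : ∀ {c : G} (hcL : c ∈ normalizer (L : Set G)), c * c = 1 →
      conjOn L hcL * conjOn L hcL = 1 := fun {c} hcL hcc => MulEquiv.ext fun y => Subtype.ext (by
    show c * (c * y * c⁻¹) * c⁻¹ = (y : G)
    rw [show c * (c * y * c⁻¹) * c⁻¹ = (c * c) * y * (c * c)⁻¹ by group, hcc, one_mul, inv_one,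
      mul_one])
  have hcomm : conjOn L haL * conjOn L hbL = conjOn L hbL * conjOn L haL :=
    MulEquiv.ext fun y => Subtype.ext (by
      show a * (b * y * b⁻¹) * a⁻¹ = b * (a * y * a⁻¹) * b⁻¹
      rw [show a * (b * y * b⁻¹) * a⁻¹ = (a * b) * y * (a * b)⁻¹ by group,
        show b * (a * y * a⁻¹) * b⁻¹ = (b * a) * y * (b * a)⁻¹ by group, hc])
  have he := eq_of_commute hGW hLn S m eS (hsq haL haa) (hsq hbL hbb) hcomm
    (cycFix_conjOn L haL hCa) (cycFix_conjOn L hbL hCb) fun h => hgen (by
      have h' := congrArg (Subgroup.map L.subtype) h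
      rw [Subgroup.map_sup, map_fixAut_conjOn, map_fixAut_conjOn, ← MonoidHom.range_eq_map,
        range_subtype] at h'
      calc L = _ := h'.symm
        _ ≤ _ := sup_le_sup le_sup_right le_rfl)
  refine mem_centralizer_iff.2 fun y hy => ?_
  have h1 : a * (a * y * a⁻¹) * a⁻¹ = a * (b * y * b⁻¹) * a⁻¹ := congrArg (fun z => a * z * a⁻¹)
    (congrArg Subtype.val (MulEquiv.congr_fun he ⟨y, hy⟩))
  rw [show a * (a * y * a⁻¹) * a⁻¹ = (a * a) * y * (a * a)⁻¹ by group, haa, one_mul, inv_one,
    mul_one] at h1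
  calc y * (a * b) = a * (b * y * b⁻¹) * a⁻¹ * (a * b) := by rw [← h1]
    _ = a * b * y := by group

end CfsgLib.Recog.GW
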