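import Cfsg.Agent.Lib.Recog.GenDihedral.PSLExtension
import Cfsg.Agent.Lib.Invol.CN.AutPSLTwo

/-!
Involutory automorphisms of `PSL₂(q)` with a field part fix a four-group.
-/

set_option autoImplicit false
set_option linter.unusedSectionVars false

namespace CfsgLib.Recog.GW

open Subgroup Matrix CfsgLib.KnownC
open scoped MatrixGroups

/-- The fixed points of an automorphism. -/
def fixAut {L : Type*} [Group L] (α : MulAut L) : Subgroup L :=
  α.toMonoidHom.eqLocus (MonoidHom.id L)

theorem mem_fixAut {L : Type*} [Group L] {α : MulAut L} {x : L} : x ∈ fixAut α ↔ α x = x := Iff.rfl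

/-- The 2-subgroups fixed by `α` are cyclic. -/
def CycFix {L : Type*} [Group L] (α : MulAut L) : Prop :=
  ∀ W : Subgroup L, IsPGroup 2 W → W ≤ fixAut α → IsCyclic W

/-- A four-group fixed by `α`. -/
def FourFix {L : Type*} [Group L] (α : MulAut L) : Prop :=
  ∃ i j : L, orderOf i = 2 ∧ orderOf j = 2 ∧ Commute i j ∧ i ≠ j ∧ α i = i ∧ α j = j

theorem not_fourFix {L : Type*} [Group L] [Finite L] {α : MulAut L} (hC : CycFix α) :
    ¬ FourFix α := by
  rintro ⟨i, j, hi, hj, hij, hne, hαi, hαj⟩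
  have : Fact (Nat.Prime 2) := ⟨Nat.prime_two⟩
  have hp : ∀ {x : L}, orderOf x = 2 → IsPGroup 2 (zpowers x) := fun hx =>
    IsPGroup.iff_card.2 ⟨1, by rw [Nat.card_zpowers, hx, pow_one]⟩
  have hn : zpowers i ≤ normalizer (zpowers j : Set L) :=
    zpowers_le.2 (Subgroup.mem_normalizer_fintype fun y hy => by
      obtain ⟨k, rfl⟩ := mem_zpowers_iff.1 hy
      rw [(hij.zpow_right k).eq, mul_inv_cancel_right]
      exact zpow_mem (mem_zpowers j) k)
  have hW := hC _ ((hp hi).to_sup_of_normal_right' (hp hj) hn)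
    (sup_le (zpowers_le.2 hαi) (zpowers_le.2 hαj))
  obtain ⟨g, hg⟩ := hW.exists_generator
  have key : ∀ x : L, x ∈ zpowers i ⊔ zpowers j → x ∈ zpowers (g : L) := fun x hx => by
    obtain ⟨k, hk⟩ := mem_zpowers_iff.1 (hg ⟨x, hx⟩)
    exact mem_zpowers_iff.2 ⟨k, by simpa using congrArg Subtype.val hk⟩
  exact hne (CfsgLib.BlockA.DihedralBlock.invol_zpowers_unique (key i (mem_sup_left (mem_zpowers i)))
    (key j (mem_sup_right (mem_zpowers j))) hi hj)

variable {F : Type} [Field F] [Fintype F]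

local notation "PSL2" => ProjectiveSpecialLinearGroup (Fin 2) F

/-- The model of a twisted field automorphism fixes a four-group. -/
theorem fourFix_model (h2 : (2 : F) ≠ 0) {σ : F ≃+* F} (hσ : σ ≠ 1) (hσ2 : σ * σ = 1) {l : F}
    (hl0 : l ≠ 0) (hl : σ l = l) :
    ∀ J : GL (Fin 2) F, J.1 = !![0, l; 1, 0] → FourFix (semiAut J σ) := by
  intro J hJ
  obtain ⟨r, hr⟩ := CfsgLib.Recog.GenDihedral.isSquare_of_fixed h2 hσ hσ2
    (a := (-1 : F)) (by rw [map_neg, map_one])
  obtain ⟨μ, hμ⟩ := CfsgLib.Recog.GenDihedral.isSquare_of_fixed h2 hσ hσ2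
    (a := -l⁻¹) (by rw [map_neg, map_inv₀, hl])
  have hr0 : r ≠ 0 := fun e => by rw [e, mul_zero] at hr; exact one_ne_zero (neg_eq_zero.1 hr)
  have hμ0 : μ ≠ 0 := fun e => by
    rw [e, mul_zero, neg_eq_zero, inv_eq_zero] at hμ; exact hl0 hμ
  have hμl : μ * μ * l = -1 := by rw [← hμ, neg_mul, inv_mul_cancel₀ hl0]
  let i : SL(2, F) := ⟨!![r, 0; 0, -r], by rw [det_fin_two_of]; linear_combination hr⟩
  let j : SL(2, F) := ⟨!![0, μ * l; μ, 0], by rw [det_fin_two_of]; linear_combination -hμl⟩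
  have hic : (i : Matrix (Fin 2) (Fin 2) F) = !![r, 0; 0, -r] := rfl
  have hjc : (j : Matrix (Fin 2) (Fin 2) F) = !![0, μ * l; μ, 0] := rfl
  have hneg : (-1 : SL(2, F)) ∈ Subgroup.center SL(2, F) :=
    mem_center_iff.2 fun g => Subtype.ext (by simp)
  have hsc : ∀ g : SL(2, F), g ∈ Subgroup.center SL(2, F) →
      g.1 0 1 = 0 ∧ g.1 1 0 = 0 ∧ g.1 0 0 = g.1 1 1 := fun g hg => by
    obtain ⟨c, -, hc⟩ := Matrix.SpecialLinearGroup.mem_center_iff.1 hg
    rw [← hc]; simp
  have hord : ∀ x : SL(2, F), x * x = -1 → x ∉ Subgroup.center SL(2, F) →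
      orderOf (QuotientGroup.mk x : PSL2) = 2 := fun x hx hxc => by
    refine CfsgLib.Invol.invol_of_mul_self ?_
      fun e => hxc ((QuotientGroup.eq_one_iff x).1 e)
    rw [← QuotientGroup.mk_mul, hx]
    exact (QuotientGroup.eq_one_iff _).2 hneg
  have hii : i * i = -1 := Subtype.ext (by
    show (i : Matrix (Fin 2) (Fin 2) F) * i = _
    rw [hic]; ext a b; fin_cases a <;> fin_cases b <;> simp [hr.symm])
  have hjj : j * j = -1 := Subtype.ext (by
    show (j : Matrix (Fin 2) (Fin 2) F) * j = _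
    rw [hjc]; ext a b; fin_cases a <;> fin_cases b <;> simp <;>
      linear_combination hμl)
  have hji : j * i = -1 * (i * j) := Subtype.ext (by
    show (j : Matrix (Fin 2) (Fin 2) F) * i = -1 * ((i : Matrix (Fin 2) (Fin 2) F) * j)
    rw [hic, hjc]
    ext a b; fin_cases a <;> fin_cases b <;> simp <;> ring)
  refine ⟨QuotientGroup.mk i, QuotientGroup.mk j, hord i hii fun h => ?_, hord j hjj fun h => ?_,
    ?_, fun e => ?_, ?_, ?_⟩
  · obtain ⟨-, -, h3⟩ := hsc i h
    rw [hic] at h3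
    simp at h3
    exact hr0 ((mul_eq_zero.1 (show (2 : F) * r = 0 by linear_combination h3)).resolve_left h2)
  · obtain ⟨-, h1, -⟩ := hsc j h
    rw [hjc] at h1
    simp at h1
    exact hμ0 h1
  · show (QuotientGroup.mk i : PSL2) * QuotientGroup.mk j = QuotientGroup.mk j * QuotientGroup.mk i
    rw [← QuotientGroup.mk_mul, ← QuotientGroup.mk_mul, hji, QuotientGroup.mk_mul,
      QuotientGroup.mk_mul, QuotientGroup.mk_mul,
      (QuotientGroup.eq_one_iff (-1 : SL(2, F))).2 hneg, one_mul]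
  · rcases CfsgLib.Invol.CN.eq_or_eq_neg_of_mk e with h | h <;>
    · rw [hic, hjc] at h
      have := congrFun (congrFun h 0) 0
      simp at this
      exact hr0 this
  · refine CfsgLib.Invol.CN.semiAut_fix J σ i (-(σ r) / r) ?_
    rw [hic, hJ]
    ext a b
    fin_cases a <;> fin_cases b <;> simp [Matrix.mul_apply, Matrix.vecMul, dotProduct, Fin.sum_univ_two] <;>
      first | simp [hr0, hμ0] | (field_simp; done) | ring
  · refine CfsgLib.Invol.CN.semiAut_fix J σ j (σ μ / μ) ?_
    rw [hjc, hJ]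
    ext a b
    fin_cases a <;> fin_cases b <;> simp [Matrix.mul_apply, Matrix.vecMul, dotProduct, Fin.sum_univ_two, hl] <;>
      first | simp [hr0, hμ0] | (field_simp; done) | ring

/-- An involutory automorphism with a field part fixes a four-group. -/
theorem fourFix_of_field (hodd : Odd (Fintype.card F)) {g : GL (Fin 2) F} {σ : F ≃+* F}
    (hσ : σ ≠ 1) (h1 : semiAut g σ * semiAut g σ = 1) : FourFix (semiAut g σ) := by
  have h2 : (2 : F) ≠ 0 := CfsgLib.Recog.GenDihedral.two_ne_zero_of_odd hodd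
  rw [semiAut_mul] at h1
  obtain ⟨hσ2, hcen⟩ := (semiAut_eq_one_iff le_rfl _ _).1 h1
  have hss : ∀ a, σ (σ a) = a := fun a => RingEquiv.congr_fun hσ2 a
  rw [Matrix.GeneralLinearGroup.center_eq_range_scalar] at hcen
  obtain ⟨l, hl⟩ := hcen
  set g' := GeneralLinearGroup.map (σ : F →+* F) g with hg'
  have hlfix : σ (l : F) = l := by
    have h3 : g' * g = Matrix.GeneralLinearGroup.scalar (Fin 2) l := by
      have hcomm : Commute (Matrix.GeneralLinearGroup.scalar (Fin 2) l) g := by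
        refine (mem_center_iff.1 ?_ g).symm
        rw [Matrix.GeneralLinearGroup.center_eq_range_scalar]; exact ⟨l, rfl⟩
      calc g' * g = g⁻¹ * (g * g') * g := by group
        _ = g⁻¹ * (Matrix.GeneralLinearGroup.scalar (Fin 2) l * g) := by rw [hl, mul_assoc]
        _ = Matrix.GeneralLinearGroup.scalar (Fin 2) l := by
          rw [hcomm.eq, inv_mul_cancel_left]
    have h4 : GeneralLinearGroup.map (σ : F →+* F) g' = g :=
      Units.ext (Matrix.ext fun a b => hss _)
    have h5 := congrArg (GeneralLinearGroup.map (σ : F →+* F)) h3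
    rw [map_mul, h4, ← hg', ← hl] at h5
    have h6 := congrArg (fun u : GL (Fin 2) F => (u : Matrix (Fin 2) (Fin 2) F) 0 0) h5
    simpa using h6.symm
  by_cases hz : g ∈ Subgroup.center (GL (Fin 2) F)
  · obtain ⟨i, j, hi, hj, hij, hne, hfix⟩ := CfsgLib.Recog.GenDihedral.exists_four (F := F) h2
    have he : semiAut g σ = semiAut 1 σ :=
      (semiAut_eq_iff le_rfl _ _ _ _).2 ⟨rfl, by rw [inv_one, one_mul]; exact hz⟩
    exact ⟨i, j, hi, hj, hij, hne, he ▸ (hfix σ).1, he ▸ (hfix σ).2⟩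
  -- a fixed vector moved to an independent one
  obtain ⟨x, y, hx, hy, hv⟩ : ∃ x y : F, σ x = x ∧ σ y = y ∧
      x * (g.1 1 0 * x + g.1 1 1 * y) - y * (g.1 0 0 * x + g.1 0 1 * y) ≠ 0 := by
    by_contra hall
    push Not at hall
    have e10 := hall 1 0 (map_one σ) (map_zero σ)
    have e01 := hall 0 1 (map_zero σ) (map_one σ)
    have e11 := hall 1 1 (map_one σ) (map_one σ)
    simp at e10 e01 e11
    rw [e10, e01, zero_add, add_zero, sub_eq_zero] at e11
    refine hz ?_
    rw [Matrix.GeneralLinearGroup.center_eq_range_scalar]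
    refine ⟨Units.mk0 (g.1 0 0) fun h0 => g.det_ne_zero ?_, Units.ext ?_⟩
    · rw [det_fin_two, h0, e01]; ring
    · ext a b
      fin_cases a <;> fin_cases b <;> simp [e10, e01, e11]
  let B : GL (Fin 2) F := GeneralLinearGroup.mkOfDetNeZero
    !![x, g.1 0 0 * x + g.1 0 1 * y; y, g.1 1 0 * x + g.1 1 1 * y] (by
      rw [det_fin_two_of]; intro e; exact hv (by linear_combination e))
  let J : GL (Fin 2) F := GeneralLinearGroup.mkOfDetNeZero !![0, (l : F); 1, 0] (by
    rw [det_fin_two_of]; simp)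
  have hBJ : g * GeneralLinearGroup.map (σ : F →+* F) B = B * J := by
    have hgg : ∀ a b : Fin 2, g.1 a 0 * σ (g.1 0 b) + g.1 a 1 * σ (g.1 1 b) =
        if a = b then (l : F) else 0 := fun a b => by
      have h6 := congrArg (fun u : GL (Fin 2) F => (u : Matrix (Fin 2) (Fin 2) F) a b) hl.symm
      fin_cases a <;> fin_cases b <;>
        simpa [hg', Matrix.mul_apply, Fin.sum_univ_two] using h6
    have h00 := hgg 0 0
    have h01 := hgg 0 1
    have h10 := hgg 1 0
    have h11 := hgg 1 1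
    simp at h00 h01 h10 h11
    refine Units.ext ?_
    ext a b
    fin_cases a <;> fin_cases b <;> simp [B, J, Matrix.mul_apply, Fin.sum_univ_two, hx, hy]
    · linear_combination x * h00 + y * h01
    · linear_combination x * h10 + y * h11
  obtain ⟨i, j, hi, hj, hij, hne, hfi, hfj⟩ :=
    fourFix_model h2 hσ hσ2 l.ne_zero hlfix J rfl
  let θ : MulAut PSL2 := semiAut B (RingEquiv.refl F)
  have hθ : semiAut g σ * θ = θ * semiAut J σ := by
    show semiAut g σ * semiAut B (RingEquiv.refl F) = semiAut B (RingEquiv.refl F) * semiAut J σ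
    rw [semiAut_mul, semiAut_mul, hBJ]
    rfl
  have hfix : ∀ z : PSL2, semiAut J σ z = z → semiAut g σ (θ z) = θ z := fun z hz' => by
    have := MulEquiv.congr_fun hθ z
    rw [MulAut.mul_apply, MulAut.mul_apply, hz'] at this
    exact this
  refine ⟨θ i, θ j, ?_, ?_, hij.map θ.toMonoidHom, fun e => hne (θ.injective e), hfix i hfi, hfix j hfj⟩
  · rw [θ.orderOf_eq, hi]
  · rw [θ.orderOf_eq, hj]

end CfsgLib.Recog.GW
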