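import Mathlib
import Cfsg.Agent.Lib.Recog.SuborbitThree.Small

/-!
Small subgroups that contain the fixed points of an involutory automorphism of `PSL₂(q)`.
-/

set_option autoImplicit false

namespace CfsgLib.Recog.GW

open Subgroup Equiv

/-- A commuting double transposition that is a product of two elements of order three. -/
def PairPartner (b v : Equiv.Perm (Fin 4)) : Prop :=
  v ≠ 1 ∧ v * v = 1 ∧ b * v = v * b ∧ v ≠ b ∧ ∃ x y, x * x * x = 1 ∧ y * y * y = 1 ∧ x * y = v

instance (b v : Equiv.Perm (Fin 4)) : Decidable (PairPartner b v) := by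
  unfold PairPartner; infer_instance

theorem perm_four_partner : ∀ b c : Equiv.Perm (Fin 4), b * b = 1 → b ≠ 1 → c * c * c = 1 → c ≠ 1 →
    (b * c = c * b ∨ b * c = c * c * b) → ∃ v, PairPartner b v ∧ ∀ w, PairPartner b w → w = v := by
  decide +kernel

theorem alt_four_cubes :
    (Finset.univ.filter fun a : alternatingGroup (Fin 4) => a * a * a = 1).card = 9 := by
  decide +kernel

theorem perm_five_fixed : ∀ g : Equiv.Perm (Fin 5), g * g = 1 →
    (Finset.univ.filter fun x : alternatingGroup (Fin 5) =>
      g * (x : Equiv.Perm (Fin 5)) * g⁻¹ = x).card ≠ 10 := by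
  decide +kernel

/-- A subgroup of index at most two contains every element whose cube is one. -/
theorem mem_of_cube {M : Type*} [Group M] {H : Subgroup M} (hH : H.index = 1 ∨ H.index = 2) {a : M}
    (ha : a * a * a = 1) : a ∈ H := by
  rcases hH with h | h
  · rw [index_eq_one.1 h]; exact mem_top a
  · have e : a = a * a * (a * a) := by
      rw [← mul_assoc, ha, one_mul]
    rw [e]
    exact H.mul_mem (mul_self_mem_of_index_two h a) (mul_self_mem_of_index_two h a)

/-- `Alt(4)` has no subgroup of order six. -/
theorem alt_four_no_six {M : Type*} [Group M] [Finite M] (e : M ≃* alternatingGroup (Fin 4))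
    (H : Subgroup M) (hH : Nat.card H = 6) : False := by
  classical
  have h12 : Nat.card M = 12 := by
    rw [Nat.card_congr e.toEquiv, Nat.card_eq_fintype_card]; decide +kernel
  have hi : H.index = 2 := by
    have := H.index_mul_card
    rw [hH, h12] at this
    omega
  have hle : (Finset.univ.filter fun a : alternatingGroup (Fin 4) => a * a * a = 1).card ≤ 6 := by
    rw [← Fintype.card_subtype, ← Nat.card_eq_fintype_card, ← hH]
    refine Nat.card_le_card_of_injective (fun a => (⟨e.symm a.1, mem_of_cube (Or.inr hi) ?_⟩ : H))
      fun a b h => Subtype.ext (e.symm.injective (congrArg Subtype.val h))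
    rw [← map_mul, ← map_mul, a.2, map_one]
  rw [alt_four_cubes] at hle
  omega

/-- An automorphism of order two of `Alt(5)` does not fix exactly ten elements. -/
theorem alt_five_fixed_ne_ten {M : Type*} [Group M] [Finite M] (e : M ≃* alternatingGroup (Fin 5))
    (γ : MulAut M) (hγ : γ * γ = 1) :
    Nat.card {x : M // γ x = x} ≠ 10 := by
  classical
  let δ : MulAut (alternatingGroup (Fin 5)) := MulAut.congr e γ
  have hδ : δ * δ = 1 := by
    show MulAut.congr e γ * MulAut.congr e γ = 1
    rw [← map_mul, hγ, map_one]
  obtain ⟨g, hg⟩ := CfsgLib.InvChar.exists_perm_of_preserves_threeCycles (n := 5) (by norm_num) δ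
    fun x hx => by
      have h3 : ∀ y : Equiv.Perm (Fin 5), y ∈ alternatingGroup (Fin 5) → y * y * y = 1 → y ≠ 1 →
          y.IsThreeCycle := by
        intro y _ h1 h2
        have ho : orderOf y = 3 := orderOf_eq_prime (by rw [pow_three', h1]) h2
        obtain ⟨n, hn⟩ := Equiv.Perm.cycleType_prime_order (σ := y) (by rw [ho]; exact Nat.prime_three)
        rw [ho] at hn
        have hsum : y.cycleType.sum ≤ 5 := by
          rw [Equiv.Perm.sum_cycleType]
          exact (Finset.card_le_univ _).trans (by simp)
        rw [hn, Multiset.sum_replicate, smul_eq_mul] at hsum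
        obtain rfl : n = 0 := by omega
        simpa [Equiv.Perm.IsThreeCycle] using hn
      refine h3 _ (δ x).2 ?_ fun h => ?_
      · have h1 : x * x * x = 1 := Subtype.ext (by
          show (x : Equiv.Perm (Fin 5)) * x * x = 1
          rw [← pow_three', ← hx.orderOf, pow_orderOf_eq_one])
        have := congrArg Subtype.val (congrArg δ h1)
        simpa using this
      · have : x = 1 := δ.injective (by rw [map_one]; exact Subtype.ext h)
        exact hx.ne_one (by rw [this]; rfl)
  have hgg : g * g = 1 := by
    apply CfsgLib.InvChar.conjNormal_injective (n := 5) (by norm_num)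
    rw [map_mul, hg, hδ, map_one]
  intro h10
  refine perm_five_fixed g hgg ?_
  rw [← Fintype.card_subtype, ← Nat.card_eq_fintype_card, ← h10]
  refine Nat.card_congr (Equiv.subtypeEquiv e.symm.toEquiv fun x => ?_)
  show g * (x : Equiv.Perm (Fin 5)) * g⁻¹ = x ↔ γ (e.symm x) = e.symm x
  rw [← MulAut.conjNormal_apply, hg]
  constructor
  · intro h
    have : e (γ (e.symm x)) = x := Subtype.ext h
    exact e.injective (this.trans (e.apply_symm_apply x).symm)
  · intro h
    show ((e (γ (e.symm x)) : alternatingGroup (Fin 5)) : Equiv.Perm (Fin 5)) = x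
    rw [h, e.apply_symm_apply]

/-- A subgroup of index two, three or four gives a proper normal subgroup of small index. -/
theorem eq_top_of_index_le_four {M : Type*} [Group M] [Finite M] [IsSimpleGroup M]
    (hM : 24 < Nat.card M) {H : Subgroup M} (hi : H.index ≤ 4) : H = ⊤ := by
  classical
  by_contra hne
  have hbot : H.normalCore = ⊥ := by
    rcases H.normalCore_normal.eq_bot_or_eq_top with h | h
    · exact h
    · exact absurd (eq_top_iff.2 (h ▸ H.normalCore_le)) hne
  have hinj : Function.Injective (MulAction.toPermHom M (M ⧸ H)) := by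
    rw [← MonoidHom.ker_eq_bot_iff, ← Subgroup.normalCore_eq_ker, hbot]
  have h1 := Nat.card_le_card_of_injective _ hinj
  rw [Nat.card_perm, ← index_eq_card] at h1
  have h2 : Nat.factorial H.index ≤ Nat.factorial 4 := Nat.factorial_le hi
  rw [show Nat.factorial 4 = 24 from rfl] at h2
  omega

end CfsgLib.Recog.GW
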