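import Cfsg.Agent.Lib.Recog.GW.OuterPairField
import Cfsg.Agent.Lib.Recog.GW.OuterPairSmall
import Cfsg.Agent.Lib.Recog.GW.CentralizerMaximal

/-!
Two commuting involutory automorphisms of `PSL₂(q)` whose fixed subgroups have cyclic Sylow
2-subgroups and generate a proper subgroup are equal.
-/

set_option autoImplicit false
set_option linter.unusedSectionVars false

namespace CfsgLib.Recog.GW

open Subgroup Matrix CfsgLib.KnownC CfsgLib.Geom.Moebius
open scoped MatrixGroups

variable {F : Type} [Field F] [Fintype F]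

local notation "S2" => ProjectiveSpecialLinearGroup (Fin 2) F
local notation "ψ" => Matrix.ProjectiveSpecialLinearGroup.toPGL (n := Fin 2) (R := F)

theorem toPGL_semiAut (g : GL (Fin 2) F) (x : S2) :
    ψ (semiAut g (RingEquiv.refl F) x) =
      ProjGenLinGroup.mk g * ψ x * (ProjGenLinGroup.mk g)⁻¹ := by
  obtain ⟨s, rfl⟩ := QuotientGroup.mk_surjective x
  rw [semiAut_mk, ProjectiveSpecialLinearGroup.toPGL_mk, ProjectiveSpecialLinearGroup.toPGL_mk,
    ← map_inv, ← map_mul, ← map_mul]
  exact congrArg _ (Units.ext rfl)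

theorem fourFix_one (h2 : (2 : F) ≠ 0) : FourFix (1 : MulAut S2) := by
  obtain ⟨i, j, hi, hj, hij, hne, -⟩ := CfsgLib.Recog.GenDihedral.exists_four (F := F) h2
  exact ⟨i, j, hi, hj, hij, hne, rfl, rfl⟩

theorem fourFix_inner (hodd : Odd (Fintype.card F)) {x : S2} (hx : x * x = 1) :
    FourFix (MulAut.conj x) := by
  have h2 : (2 : F) ≠ 0 := CfsgLib.Recog.GenDihedral.two_ne_zero_of_odd hodd
  by_cases h1 : x = 1
  · subst h1
    rw [map_one]
    exact fourFix_one h2
  obtain ⟨i, j, hi, hj, hij, hne, -⟩ := CfsgLib.Recog.GenDihedral.exists_four (F := F) h2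
  obtain ⟨y, hy⟩ := isConj_iff.1 (CfsgLib.Fusion.psl_two_involutions_conj hodd i x hi
    (CfsgLib.Invol.invol_of_mul_self hx h1))
  refine ⟨MulAut.conj y i, MulAut.conj y j, ?_, ?_, hij.map (MulAut.conj y).toMonoidHom,
    fun e => hne ((MulAut.conj y).injective e), ?_, ?_⟩
  · rw [MulEquiv.orderOf_eq, hi]
  · rw [MulEquiv.orderOf_eq, hj]
  · simp only [MulAut.conj_apply, ← hy]; group
  · simp only [MulAut.conj_apply, ← hy]
    calc y * i * y⁻¹ * (y * j * y⁻¹) * (y * i * y⁻¹)⁻¹ = y * (i * j * i⁻¹) * y⁻¹ := by group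
      _ = y * j * y⁻¹ := by rw [hij.eq, mul_inv_cancel_right]

/-- An outer involutory diagonal automorphism has dihedral fixed points of order `q ± 1`. -/
theorem fixAut_dihedral (hodd : Odd (Fintype.card F)) (h4 : 4 ≤ Fintype.card F) {g : GL (Fin 2) F}
    (hg : ProjGenLinGroup.mk g ∉ imL F) (hgg : ProjGenLinGroup.mk g * ProjGenLinGroup.mk g = 1)
    (hC : CycFix (semiAut g (RingEquiv.refl F))) :
    ∃ k, Odd k ∧ (2 * k = Fintype.card F - 1 ∨ 2 * k = Fintype.card F + 1) ∧
      Nonempty (fixAut (semiAut g (RingEquiv.refl F)) ≃* DihedralGroup k) := by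
  have := finite_pgl_two (F := F)
  set G0 : PGL(2, F) := ProjGenLinGroup.mk g
  obtain ⟨E, _, _, f, hE, hQC⟩ := exists_quadExt F
  have hG1 : G0 ≠ 1 := fun e => hg (e ▸ one_mem _)
  obtain ⟨P, hP⟩ := exists_fixed f hQC G0
  obtain ⟨Q, hQ, hne⟩ : ∃ Q, extHom f G0 • Q = Q ∧ Q ≠ P := by
    by_contra hu
    push Not at hu
    exact hg (card_centralizer_one_fixed f hQC hG1 hP hu).1
  obtain ⟨hT, s, hsL, hsP, hsQ⟩ := torus_inf_imL f hE hQC hodd h4 hne.symm hG1 hP hQ
  obtain ⟨-, hcard, -⟩ := torus_pair f hE hQC hne.symm hG1 hP hQ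
  set k := Nat.card (fixExt f P ⊓ fixExt f Q ⊓ imL F : Subgroup PGL(2, F))
  have hk : 2 * k = Fintype.card F - 1 ∨ 2 * k = Fintype.card F + 1 := by rw [hT]; exact hcard
  have hk2 : 2 ≤ k := by
    obtain ⟨i, hi⟩ := hodd
    omega
  obtain ⟨⟨d⟩, -⟩ := pairStab_dihedral f hQC hne.symm (imL F) hsL hsP hsQ hk2
  have hmap : (fixAut (semiAut g (RingEquiv.refl F))).map ψ = pairStab f P Q ⊓ imL F := by
    ext y
    constructor
    · rintro ⟨x, hx, rfl⟩
      refine ⟨?_, x, rfl⟩
      have hc : ψ x ∈ centralizer ({G0} : Set PGL(2, F)) := by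
        rw [mem_centralizer_singleton_iff]
        have h1 : G0 * ψ x * G0⁻¹ = ψ x := by rw [← toPGL_semiAut, mem_fixAut.1 hx]
        calc ψ x * G0 = G0 * ψ x * G0⁻¹ * G0 := by rw [h1]
          _ = G0 * ψ x := inv_mul_cancel_right _ _
      rcases (centralizer_two_fixed f hE hQC hne.symm hG1 hP hQ).1 hc with h | h
      · exact pairStab_self f P Q h
      · exact h.2
    · rintro ⟨hy, x, rfl⟩
      refine ⟨x, mem_fixAut.2 (ProjectiveSpecialLinearGroup.toPGL_injective ?_), rfl⟩
      have h1 := mem_centralizer_singleton_iff.1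
        ((centralizer_two_fixed f hE hQC hne.symm hG1 hP hQ).2 (Or.inr ⟨hgg, hy⟩))
      rw [toPGL_semiAut, ← h1, mul_inv_cancel_right]
  let ed : fixAut (semiAut g (RingEquiv.refl F)) ≃* DihedralGroup k :=
    ((equivMapOfInjective _ ψ ProjectiveSpecialLinearGroup.toPGL_injective).trans
      (MulEquiv.subgroupCongr hmap)).trans d
  refine ⟨k, Nat.not_even_iff_odd.1 fun hev => ?_, hk, ⟨ed⟩⟩
  -- an even torus gives a fixed four-group
  obtain ⟨m, hm⟩ := hev
  have hm0 : (m : ZMod k) ≠ 0 := fun e => by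
    rw [ZMod.natCast_eq_zero_iff] at e
    have := Nat.le_of_dvd (by omega) e
    omega
  have hmm : (m : ZMod k) + m = 0 := by
    rw [← Nat.cast_add, ← hm, ZMod.natCast_self]
  apply not_fourFix hC
  refine ⟨ed.symm (.r m), ed.symm (.sr 0), ?_, ?_, ?_, ?_, (ed.symm (.r m)).2, (ed.symm (.sr 0)).2⟩
  · rw [Subgroup.orderOf_coe, MulEquiv.orderOf_eq]
    refine CfsgLib.Invol.invol_of_mul_self ?_ ?_
    · rw [DihedralGroup.r_mul_r, hmm, DihedralGroup.r_zero]
    · rw [← DihedralGroup.r_zero]
      exact fun e => hm0 (DihedralGroup.r.inj e)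
  · rw [Subgroup.orderOf_coe, MulEquiv.orderOf_eq, DihedralGroup.orderOf_sr]
  · refine congrArg Subtype.val (show ed.symm (.r m) * ed.symm (.sr 0) = ed.symm (.sr 0) * ed.symm (.r m) from ?_)
    rw [← map_mul, ← map_mul, DihedralGroup.r_mul_sr, DihedralGroup.sr_mul_r]
    congr 2
    rw [zero_sub, zero_add, neg_eq_iff_add_eq_zero, hmm]
  · intro e
    exact DihedralGroup.noConfusion rfl (heq_of_eq (ed.symm.injective (Subtype.ext e)))

theorem dihedral_center_trivial {k : ℕ} (hk : Odd k) (h3 : 3 ≤ k) {z : DihedralGroup k}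
    (hz : ∀ w, z * w = w * z) : z = 1 := by
  have h2 : IsUnit (2 : ZMod k) := by
    have := (ZMod.isUnit_iff_coprime 2 k).2 hk.coprime_two_left
    simpa using this
  rcases z with i | i
  · have h := hz (.sr 0)
    rw [DihedralGroup.r_mul_sr, DihedralGroup.sr_mul_r] at h
    have h0 : (2 : ZMod k) * i = 0 := by
      have := DihedralGroup.sr.inj h
      linear_combination -this
    rw [h2.mul_right_eq_zero] at h0
    rw [h0, DihedralGroup.r_zero]
  · have h := hz (.r 1)
    rw [DihedralGroup.r_mul_sr, DihedralGroup.sr_mul_r] at h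
    have h0 : (2 : ZMod k) * 1 = 0 := by
      have := DihedralGroup.sr.inj h
      linear_combination this
    rw [h2.mul_right_eq_zero] at h0
    have : Fact (1 < k) := ⟨by omega⟩
    exact absurd h0 one_ne_zero

/-- The form of an involutory automorphism with cyclic fixed Sylow 2-subgroups. -/
theorem outer_form (hodd : Odd (Fintype.card F)) {α : MulAut S2} (hα : α * α = 1) (hC : CycFix α) :
    ∃ g : GL (Fin 2) F, α = semiAut g (RingEquiv.refl F) ∧ ProjGenLinGroup.mk g ∉ imL F ∧
      ProjGenLinGroup.mk g * ProjGenLinGroup.mk g = 1 := by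
  rcases mulAut_psl_cases le_rfl α with ⟨g, σ, rfl⟩ | ⟨h, -⟩
  swap
  · omega
  by_cases hσ : σ = 1
  swap
  · exact absurd (fourFix_of_field hodd hσ hα) (not_fourFix hC)
  subst hσ
  have hgg : ProjGenLinGroup.mk g * ProjGenLinGroup.mk g = 1 := by
    rw [← map_mul, ProjGenLinGroup.mk_eq_one]
    rw [semiAut_mul] at hα
    exact ((semiAut_eq_one_iff le_rfl _ _).1 hα).2
  refine ⟨g, rfl, fun hg => ?_, hgg⟩
  obtain ⟨x, hx⟩ := hg
  refine absurd (?_ : FourFix (semiAut g (1 : F ≃+* F))) (not_fourFix hC)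
  have he : semiAut g (1 : F ≃+* F) = MulAut.conj x :=
    MulEquiv.ext fun y => ProjectiveSpecialLinearGroup.toPGL_injective (by
      refine (toPGL_semiAut g y).trans ?_
      rw [MulAut.conj_apply, map_mul, map_mul, map_inv, hx])
  rw [he]
  refine fourFix_inner hodd (ProjectiveSpecialLinearGroup.toPGL_injective ?_)
  rw [map_mul, map_one, hx, hgg]

theorem mem_fixAut_comm {α β : MulAut S2} (hc : α * β = β * α) :
    (fixAut β).map α.toMonoidHom ≤ fixAut β := by
  rintro _ ⟨y, hy, rfl⟩
  rw [mem_fixAut]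
  calc β (α y) = (β * α) y := rfl
    _ = (α * β) y := by rw [hc]
    _ = α y := congrArg α (mem_fixAut.1 hy)

theorem le_of_map {α : MulAut S2} (hα : α * α = 1) {K : Subgroup S2}
    (h : K.map α.toMonoidHom ≤ K) {y : S2} (hy : y ∈ K) : α y ∈ K :=
  h ⟨y, hy, rfl⟩

/-- The overgroups of a dihedral subgroup of order `2k`, `k` odd, in the possible maximal subgroups. -/
theorem no_overgroup (hodd : Odd (Fintype.card F)) (h5 : 5 ≤ Fintype.card F) {α : MulAut S2}
    (hα : α * α = 1) (hC : CycFix α) {k : ℕ} (hk : Odd k)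
    (hkq : 2 * k = Fintype.card F - 1 ∨ 2 * k = Fintype.card F + 1)
    (d : fixAut α ≃* DihedralGroup k) {K : Subgroup S2} (hK : fixAut α < K)
    (hKinv : K.map α.toMonoidHom ≤ K) : K = ⊤ := by
  classical
  by_contra hne
  obtain ⟨M, hM, hKM⟩ := (eq_top_or_exists_le_coatom K).resolve_left hne
  have hCM : fixAut α ≤ M := hK.le.trans hKM
  have hcC : Nat.card (fixAut α) = 2 * k := by
    rw [Nat.card_congr d.toEquiv, DihedralGroup.nat_card]
  have hdvd : 2 * k ∣ Nat.card M := hcC ▸ card_dvd_of_le hCM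
  have hdK : 2 * k ∣ Nat.card K := hcC ▸ card_dvd_of_le hK.le
  have hKd : Nat.card K ∣ Nat.card M := card_dvd_of_le hKM
  have hneK : 2 * k ≠ Nat.card K := fun e =>
    hK.ne (eq_of_le_of_card_ge hK.le (by rw [hcC, e]))
  have hneM : 2 * k ≠ Nat.card M := fun e =>
    (lt_of_lt_of_le hK hKM).ne (eq_of_le_of_card_ge hCM (by rw [hcC, e]))
  obtain ⟨j, hj⟩ := id hk
  obtain ⟨i, hi⟩ := id hodd
  obtain ⟨p, hp⟩ := CharP.exists F
  have : Fact p.Prime := ⟨CharP.char_is_prime F p⟩
  rcases Cfsg.Agent.S5892.result p hodd h5 M hM with h | ⟨-, m, hm, ⟨e⟩⟩ |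
    ⟨-, -, m, hm, ⟨e⟩⟩ | ⟨F₀, _, _, hc, ⟨e⟩⟩ | ⟨F₀, _, _, r, hr, hr2, hc, ⟨e⟩⟩ | ⟨h10, -, ⟨e⟩⟩ |
    ⟨hFp, -, h10, ⟨e⟩⟩ | ⟨hFp, h8, ⟨e⟩⟩
  · -- the Borel subgroup
    obtain ⟨c, hc⟩ := hdvd
    rw [hc] at h
    rw [hi, Nat.add_sub_cancel] at h hkq
    rcases hkq with e | e <;> rw [e] at h
    · have h' : 2 * c = 2 * i + 1 := by
        refine Nat.eq_of_mul_eq_mul_left (n := 2 * i) (by omega) ?_
        linarith
      omega
    · have hco : Nat.Coprime (2 * i + 1 + 1) (2 * i + 1) := by simp [Nat.coprime_self_add_left]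
      have h' : 2 * i + 1 + 1 ∣ 2 * i := hco.dvd_of_dvd_mul_left ⟨2 * c, by linarith⟩
      have := Nat.le_of_dvd (by omega) h'
      omega
  · rw [Nat.card_congr e.toEquiv, DihedralGroup.nat_card] at hdvd hneM
    have := Nat.le_of_dvd (by omega) hdvd
    obtain ⟨c, hc⟩ := hdvd
    rcases Nat.lt_or_ge c 2 with h | h
    · interval_cases c <;> omega
    · have : 2 * k * 2 ≤ 2 * k * c := Nat.mul_le_mul_left _ h
      omega
  · rw [Nat.card_congr e.toEquiv, DihedralGroup.nat_card] at hdvd hneM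
    have := Nat.le_of_dvd (by omega) hdvd
    obtain ⟨c, hc⟩ := hdvd
    rcases Nat.lt_or_ge c 2 with h | h
    · interval_cases c <;> omega
    · have : 2 * k * 2 ≤ 2 * k * c := Nat.mul_le_mul_left _ h
      omega
  · -- `PGL₂(√q)`
    rw [Nat.card_congr e.toEquiv, CfsgLib.Geom.Moebius.card_pgl_two] at hdvd
    have h0 : Odd (Fintype.card F₀) := (Nat.odd_pow_iff two_ne_zero).1 (hc ▸ hodd)
    obtain ⟨a, ha⟩ := h0
    rw [ha] at hdvd hc
    have hq : Fintype.card F = 4 * (a * (a + 1)) + 1 := by rw [hc]; ring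
    obtain ⟨b, hb⟩ := Nat.even_mul_succ_self a
    have hk2 : k = 2 * (a * (a + 1)) + 1 := by omega
    have ha1 : 1 ≤ a := by
      rcases a with _ | a
      · simp at hq; omega
      · omega
    have h1 : k ∣ (2 * a + 1 + 1) * ((2 * a + 1) * (2 * a)) :=
      (dvd_mul_left k 2).trans (by simpa using hdvd)
    rw [show (2 * a + 1 + 1) * ((2 * a + 1) * (2 * a)) = 2 * (2 * (a * (a + 1))) * (2 * a + 1) by
      ring] at h1
    have hco2 : Nat.Coprime k 2 := hk.coprime_two_right
    have hcoa : Nat.Coprime k (2 * (a * (a + 1))) := by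
      rw [hk2]; simp [Nat.coprime_self_add_left, Nat.coprime_add_self_left]
    have h3 : k ∣ 2 * a + 1 :=
      (Nat.Coprime.mul_right hco2 hcoa).dvd_of_dvd_mul_left h1
    have := Nat.le_of_dvd (by omega) h3
    have h4 : a * 2 ≤ a * (a + 1) := Nat.mul_le_mul_left _ (by omega)
    omega
  · -- `PSL₂` of a subfield
    have h0 : Odd (Fintype.card F₀) := (Nat.odd_pow_iff hr.ne_zero).1 (hc ▸ hodd)
    have h3 : 3 ≤ r := by
      rcases hr.two_le.eq_or_lt with h | h
      · rw [← h] at hr2; exact absurd hr2 (by decide)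
      · exact h
    have hcard := CfsgLib.Classical.card_psl_two_mul (F := F₀)
    rw [CfsgLib.Geom.Moebius.gcd_two_of_odd h0, ← Nat.card_congr e.toEquiv] at hcard
    have hco : Nat.Coprime (2 * k) (Fintype.card F₀) := by
      have hd : Fintype.card F₀ ∣ Fintype.card F := hc ▸ dvd_pow_self _ hr.ne_zero
      refine Nat.Coprime.coprime_dvd_right hd ?_
      rcases hkq with e' | e' <;> rw [e', hi]
      · simp [Nat.coprime_self_add_right]
      · simp [Nat.coprime_self_add_left]
    have h1 : 2 * k ∣ Fintype.card F₀ * (Fintype.card F₀ ^ 2 - 1) :=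
      hdvd.trans ⟨2, by rw [← hcard, mul_comm]⟩
    have h2 := Nat.le_of_dvd (by
      have := Fintype.one_lt_card (α := F₀)
      have : 2 ^ 2 ≤ Fintype.card F₀ ^ 2 := Nat.pow_le_pow_left (by omega) 2
      omega) (hco.dvd_of_dvd_mul_left h1)
    have h1q := Fintype.one_lt_card (α := F₀)
    have h0' : 3 ≤ Fintype.card F₀ := by obtain ⟨a, ha⟩ := h0; omega
    have h5' : Fintype.card F₀ ^ 2 * 3 ≤ Fintype.card F₀ ^ 3 := by
      rw [pow_succ (Fintype.card F₀) 2]; exact Nat.mul_le_mul_left _ h0'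
    have h6 : Fintype.card F₀ ^ 3 ≤ Fintype.card F := hc ▸ Nat.pow_le_pow_right (by omega) h3
    omega
  · -- `Alt(5)`
    have hM60 : Nat.card M = 60 := by
      rw [Nat.card_congr e.toEquiv, Nat.card_eq_fintype_card]; decide +kernel
    have : IsSimpleGroup (alternatingGroup (Fin 5)) := inferInstance
    have : Nontrivial M := e.toEquiv.nontrivial
    have : IsSimpleGroup M :=
      IsSimpleGroup.isSimpleGroup_of_surjective e.symm.toMonoidHom e.symm.surjective
    have hsmall : ∀ {H : Subgroup S2}, H ≤ M → 15 ≤ Nat.card H → H = M := by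
      intro H hHM h15
      have hi := (H.subgroupOf M).index_mul_card
      rw [Nat.card_congr (subgroupOfEquivOfLe hHM).toEquiv, hM60] at hi
      have : (H.subgroupOf M).index ≤ 4 := by
        by_contra h
        have := Nat.mul_le_mul (show 5 ≤ (H.subgroupOf M).index by omega) h15
        omega
      exact le_antisymm hHM (subgroupOf_eq_top.1 (eq_top_of_index_le_four (by omega) this))
    rw [hM60] at hdvd hKd hneM
    have hk30 : 2 * k ≤ 60 := Nat.le_of_dvd (by omega) hdvd
    have hk10 : 2 * k = 10 := by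
      have hne30 : 2 * k ≠ 30 := fun h => by
        have := hsmall hCM (by omega)
        rw [this, hM60] at hcC
        omega
      have hk' : 3 ≤ k ∧ k ≤ 30 ∧ k ≠ 15 := ⟨by omega, by omega, by omega⟩
      obtain ⟨h1, h2, h3⟩ := hk'
      interval_cases k <;> omega
    have hKeq : K = M := by
      refine hsmall hKM ?_
      obtain ⟨c, hc⟩ := hdK
      rcases Nat.lt_or_ge c 2 with h | h
      · interval_cases c
        · have := Nat.card_pos (α := K); omega
        · omega
      · have : 2 * k * 2 ≤ 2 * k * c := Nat.mul_le_mul_left _ h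
        omega
    subst hKeq
    -- restrict `α`
    let γ : MulAut K :=
      { toFun := fun y => ⟨α y, le_of_map hα hKinv y.2⟩
        invFun := fun y => ⟨α y, le_of_map hα hKinv y.2⟩
        left_inv := fun y => Subtype.ext (MulEquiv.congr_fun hα y.1)
        right_inv := fun y => Subtype.ext (MulEquiv.congr_fun hα y.1)
        map_mul' := fun y z => Subtype.ext (map_mul α y.1 z.1) }
    refine alt_five_fixed_ne_ten e γ (MulEquiv.ext fun y => Subtype.ext (MulEquiv.congr_fun hα y.1)) ?_
    rw [← hk10, ← hcC]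
    exact Nat.card_congr
      { toFun := fun y => ⟨y.1.1, mem_fixAut.2 (congrArg Subtype.val y.2)⟩
        invFun := fun y => ⟨⟨y.1, hCM y.2⟩, Subtype.ext (mem_fixAut.1 y.2)⟩
        left_inv := fun y => rfl
        right_inv := fun y => rfl }
  · -- `Alt(4)`
    have hM12 : Nat.card M = 12 := by
      rw [Nat.card_congr e.toEquiv, Nat.card_eq_fintype_card]; decide +kernel
    rw [hM12] at hdvd hneM
    have hk12 := Nat.le_of_dvd (by omega) hdvd
    have hk3 : k = 3 := by
      have h1 : k ≤ 6 := by omega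
      have h2 : 2 ≤ k := by omega
      interval_cases k <;> omega
    exact alt_four_no_six e ((fixAut α).subgroupOf M) (by
      rw [Nat.card_congr (subgroupOfEquivOfLe hCM).toEquiv, hcC, hk3])
  · -- `Sym(4)`
    have hM24 : Nat.card M = 24 := by
      rw [Nat.card_congr e.toEquiv, Nat.card_eq_fintype_card]; decide +kernel
    rw [hM24] at hdvd hKd hneM
    have hk24 := Nat.le_of_dvd (by omega) hdvd
    have hk3 : k = 3 := by
      have h1 : k ≤ 12 := by omega
      have h2 : 2 ≤ k := by omega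
      interval_cases k <;> omega
    subst hk3
    have hiK : (K.subgroupOf M).index = 1 ∨ (K.subgroupOf M).index = 2 := by
      have hi := (K.subgroupOf M).index_mul_card
      rw [Nat.card_congr (subgroupOfEquivOfLe hKM).toEquiv, hM24] at hi
      obtain ⟨c, hc⟩ := hdK
      rw [hc] at hi hneK
      have hpos := Nat.card_pos (α := K)
      have hc2 : 2 ≤ c := by omega
      have : (K.subgroupOf M).index * 12 ≤ 24 := by
        calc (K.subgroupOf M).index * 12 ≤ (K.subgroupOf M).index * (2 * 3 * c) :=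
              Nat.mul_le_mul_left _ (by omega)
          _ = 24 := hi
      have : (K.subgroupOf M).index ≠ 0 := fun h => by rw [h] at hi; omega
      omega
    let bC : fixAut α := d.symm (.sr 0)
    let cC : fixAut α := d.symm (.r 1)
    let bM : M := ⟨bC, hCM bC.2⟩
    let cM : M := ⟨cC, hCM cC.2⟩
    have hb : bC * bC = 1 := by
      rw [← map_mul, DihedralGroup.sr_mul_self, map_one]
    have hb1 : bC ≠ 1 := fun h => by
      rw [show bC = d.symm (.sr 0) from rfl, MulEquiv.map_eq_one_iff, ← DihedralGroup.r_zero] at h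
      exact DihedralGroup.noConfusion rfl (heq_of_eq h)
    have hc3 : cC * cC * cC = 1 := by
      rw [← map_mul, ← map_mul]
      exact (congrArg d.symm (by decide : (DihedralGroup.r 1 * DihedralGroup.r 1 * DihedralGroup.r 1 :
        DihedralGroup 3) = 1)).trans (map_one _)
    have hc1 : cC ≠ 1 := fun h => by
      rw [show cC = d.symm (.r 1) from rfl, MulEquiv.map_eq_one_iff] at h
      exact absurd h (by decide)
    have hbc : bC * cC = cC * cC * bC := by
      rw [← map_mul, ← map_mul, ← map_mul]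
      exact congrArg d.symm (by decide)
    let toM : fixAut α →* M := inclusion hCM
    have hinj : ∀ {x : fixAut α}, e (toM x) = 1 → x = 1 := fun {x} h =>
      inclusion_injective hCM ((e.map_eq_one_iff).1 h)
    obtain ⟨v, hv, huniq⟩ := perm_four_partner (e (toM bC)) (e (toM cC))
      (by rw [← map_mul, ← map_mul, hb, map_one, map_one]) (fun h => hb1 (hinj h))
      (by rw [← map_mul, ← map_mul, ← map_mul, ← map_mul, hc3, map_one, map_one])
      (fun h => hc1 (hinj h))
      (Or.inr (by simp only [← map_mul, hbc]))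
    obtain ⟨hv1, hvv, hbv, hvb, x, y, hx, hy, hxy⟩ := hv
    have hcube : ∀ {z : Equiv.Perm (Fin 4)}, z * z * z = 1 → ((e.symm z : M) : S2) ∈ K := fun {z} hz =>
      mem_of_cube (H := K.subgroupOf M) hiK (by rw [← map_mul, ← map_mul, hz, map_one])
    have hvK : ((e.symm v : M) : S2) ∈ K := by
      rw [← hxy, map_mul]
      exact K.mul_mem (hcube hx) (hcube hy)
    -- the image of the partner is again a partner
    have hαK : ∀ {z : M}, (z : S2) ∈ K → α (z : S2) ∈ M := fun {z} hz => hKM (le_of_map hα hKinv hz)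
    let v' : M := ⟨α (e.symm v : M), hαK hvK⟩
    have hfix : α (bC : S2) = bC := bC.2
    have hv' : PairPartner (e (toM bC)) (e v') := by
      refine ⟨fun h => hv1 ?_, ?_, ?_, fun h => hvb ?_, e ⟨α (e.symm x : M), hαK (hcube hx)⟩,
        e ⟨α (e.symm y : M), hαK (hcube hy)⟩, ?_, ?_, ?_⟩
      · rw [e.map_eq_one_iff] at h
        have h1 : α ((e.symm v : M) : S2) = 1 := congrArg Subtype.val h
        rw [MulEquiv.map_eq_one_iff] at h1
        have h2 : e.symm v = 1 := Subtype.ext h1
        simpa using congrArg e h2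
      · rw [← map_mul, ← map_one e]
        refine congrArg e (Subtype.ext ?_)
        show α ((e.symm v : M) : S2) * α ((e.symm v : M) : S2) = 1
        rw [← map_mul, ← Subgroup.coe_mul, ← map_mul, hvv, map_one, OneMemClass.coe_one, map_one]
      · rw [← map_mul, ← map_mul]
        refine congrArg e (Subtype.ext ?_)
        show (bC : S2) * α ((e.symm v : M) : S2) = α ((e.symm v : M) : S2) * bC
        have h1 := congrArg (fun z => ((e.symm z : M) : S2)) hbv
        simp only [map_mul, e.symm_apply_apply, Subgroup.coe_mul] at h1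
        conv_lhs => rw [← hfix, ← map_mul]
        conv_rhs => rw [← hfix, ← map_mul]
        exact congrArg α h1
      · have h1 : α ((e.symm v : M) : S2) = α (bC : S2) :=
          (congrArg Subtype.val (e.injective h)).trans hfix.symm
        have h2 : e.symm v = toM bC := Subtype.ext (α.injective h1)
        rw [← h2, e.apply_symm_apply]
      · rw [← map_mul, ← map_mul, ← map_one e]
        refine congrArg e (Subtype.ext ?_)
        show α ((e.symm x : M) : S2) * α _ * α _ = 1
        rw [← map_mul, ← map_mul, ← Subgroup.coe_mul, ← Subgroup.coe_mul, ← map_mul, ← map_mul, hx,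
          map_one, OneMemClass.coe_one, map_one]
      · rw [← map_mul, ← map_mul, ← map_one e]
        refine congrArg e (Subtype.ext ?_)
        show α ((e.symm y : M) : S2) * α _ * α _ = 1
        rw [← map_mul, ← map_mul, ← Subgroup.coe_mul, ← Subgroup.coe_mul, ← map_mul, ← map_mul, hy,
          map_one, OneMemClass.coe_one, map_one]
      · rw [← map_mul]
        refine congrArg e (Subtype.ext ?_)
        show α ((e.symm x : M) : S2) * α _ = α ((e.symm v : M) : S2)
        rw [← map_mul, ← Subgroup.coe_mul, ← map_mul, hxy]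
    have hvfix : α ((e.symm v : M) : S2) = (e.symm v : M) := by
      have h1 : v' = e.symm v := e.injective ((huniq _ hv').trans (e.apply_symm_apply v).symm)
      exact congrArg Subtype.val h1
    refine not_fourFix hC ⟨bC, (e.symm v : M), ?_, ?_, ?_, fun h => hvb ?_, hfix, hvfix⟩
    · rw [Subgroup.orderOf_coe]
      exact CfsgLib.Invol.invol_of_mul_self hb hb1
    · rw [Subgroup.orderOf_coe, MulEquiv.orderOf_eq]
      exact CfsgLib.Invol.invol_of_mul_self hvv hv1
    · have h1 := congrArg (fun z => ((e.symm z : M) : S2)) hbv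
      simp only [map_mul, e.symm_apply_apply, Subgroup.coe_mul] at h1
      exact h1
    · have h2 : e.symm v = toM bC := Subtype.ext h.symm
      rw [← h2, e.apply_symm_apply]

/-- Two commuting automorphisms with cyclic fixed Sylow subgroups. -/
theorem psl_eq_of_commute (hodd : Odd (Fintype.card F)) (h5 : 5 ≤ Fintype.card F) {α β : MulAut S2}
    (hα : α * α = 1) (hβ : β * β = 1) (hc : α * β = β * α) (hCα : CycFix α) (hCβ : CycFix β)
    (hne : fixAut α ⊔ fixAut β ≠ ⊤) : α = β := by
  obtain ⟨g, rfl, hg, hgg⟩ := outer_form hodd hα hCα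
  obtain ⟨h, rfl, hh, hhh⟩ := outer_form hodd hβ hCβ
  obtain ⟨k, hk, hkq, ⟨d⟩⟩ := fixAut_dihedral hodd (by omega) hg hgg hCα
  obtain ⟨k', hk', hkq', ⟨d'⟩⟩ := fixAut_dihedral hodd (by omega) hh hhh hCβ
  have hkk : k = k' := by
    obtain ⟨a, ha⟩ := hk
    obtain ⟨b, hb⟩ := hk'
    obtain ⟨i, hi⟩ := id hodd
    omega
  subst hkk
  set α : MulAut S2 := semiAut g (RingEquiv.refl F) with hαdef
  set β : MulAut S2 := semiAut h (RingEquiv.refl F) with hβdef
  set G0 : PGL(2, F) := ProjGenLinGroup.mk g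
  set H0 : PGL(2, F) := ProjGenLinGroup.mk h
  obtain ⟨x, hx⟩ : G0 * H0 ∈ imL F := (mul_mem_iff_of_index_two (imL_index hodd)).2 (iff_of_false hg hh)
  have hconj : ∀ y, α (β y) = x * y * x⁻¹ := fun y => ProjectiveSpecialLinearGroup.toPGL_injective (by
    rw [hαdef, toPGL_semiAut, hβdef, toPGL_semiAut, map_mul, map_mul, map_inv, hx, _root_.mul_inv_rev]
    group
    rfl)
  by_contra hab
  have hx1 : x ≠ 1 := fun e => hab (MulEquiv.ext fun y => by
    have h1 := hconj (β y)
    rw [e, one_mul, inv_one, mul_one] at h1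
    rw [← h1]
    exact congrArg α (MulEquiv.congr_fun hβ y).symm)
  have hcomm : G0 * H0 = H0 * G0 := by
    have h1 : semiAut (g * h) (RingEquiv.refl F) = semiAut (h * g) (RingEquiv.refl F) := by
      have e1 : ∀ a b : GL (Fin 2) F, semiAut a (RingEquiv.refl F) * semiAut b (RingEquiv.refl F) =
          semiAut (a * b) (RingEquiv.refl F) := fun a b => by rw [semiAut_mul]; rfl
      rw [← e1, ← e1]; exact hc
    have h2 := ((semiAut_eq_iff le_rfl _ _ _ _).1 h1).2
    rw [← ProjGenLinGroup.mk_eq_one, map_mul, map_inv, inv_mul_eq_one, map_mul, map_mul] at h2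
    exact h2.symm
  have hxfix : α x = x := ProjectiveSpecialLinearGroup.toPGL_injective (by
    rw [hαdef, toPGL_semiAut, hx]
    calc G0 * (G0 * H0) * G0⁻¹ = G0 * (H0 * G0) * G0⁻¹ := by rw [hcomm]
      _ = G0 * H0 := by group)
  have hne' : fixAut α ≠ fixAut β := fun e => by
    have hk3 : 3 ≤ k := by
      obtain ⟨a, ha⟩ := hk
      obtain ⟨i, hi⟩ := id hodd
      omega
    have hxC : x ∈ fixAut α := mem_fixAut.2 hxfix
    have hz : d ⟨x, hxC⟩ = 1 := dihedral_center_trivial hk hk3 fun w => by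
      obtain ⟨y, rfl⟩ := d.surjective w
      rw [← map_mul, ← map_mul]
      refine congrArg d (Subtype.ext ?_)
      show x * (y : S2) = y * x
      have hy : (y : S2) ∈ fixAut β := by rw [← e]; exact y.2
      have h1 : α (β (y : S2)) = y := by rw [mem_fixAut.1 hy, mem_fixAut.1 y.2]
      calc x * (y : S2) = α (β (y : S2)) * x := by rw [hconj, inv_mul_cancel_right]
        _ = y * x := by rw [h1]
    exact hx1 (congrArg Subtype.val ((d.map_eq_one_iff).1 hz))
  have hlt : fixAut α < fixAut α ⊔ fixAut β :=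
    lt_of_le_of_ne le_sup_left fun e => hne' (eq_of_le_of_card_ge (e ▸ le_sup_right)
      (by rw [Nat.card_congr d.toEquiv, Nat.card_congr d'.toEquiv])).symm
  refine hne (no_overgroup hodd h5 hα hCα hk hkq d hlt ?_)
  rw [Subgroup.map_sup]
  exact sup_le_sup (mem_fixAut_comm (α := α) (β := α) rfl) (mem_fixAut_comm hc)

end CfsgLib.Recog.GW
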