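import Cfsg.Prelude
import Cfsg.Agent.Lib.Invol.CyclicSylow
import Cfsg.Agent.Lib.Invol.BrauerSuzuki
import Cfsg.Agent.Lib.Invol.RankOne
import Cfsg.Agent.Lib.Comp.PComponent
import Cfsg.Agent.Lib.Solvable.UniqueSubgroup
import Cfsg.Agent.Lib.Fusion.ZStarCenter
import Cfsg.Agent.Lib.Recog.GenDihedral.ReduceBase

/-!
Groups generated by their `p`-elements with a Sylow `p`-subgroup of rank one.
-/

set_option autoImplicit false
set_option linter.style.haveILetI false

namespace CfsgLib.Recog.GW.PElem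

open Subgroup
open scoped commutatorElement

universe u

variable {G : Type u} [Group G] [Finite G] {p : ℕ} [Fact p.Prime]

/-- A normal subgroup of index prime to `p` is everything. -/
theorem eq_top_of_index (hgen : Cfsg.pElementClosure p (⊤ : Subgroup G) = ⊤) {N : Subgroup G}
    [N.Normal] (h : ¬ p ∣ N.index) : N = ⊤ := by
  refine top_le_iff.1 (hgen ▸ (closure_le _).2 ?_)
  rintro x ⟨-, k, hk⟩
  rw [SetLike.mem_coe, ← QuotientGroup.eq_one_iff, ← orderOf_eq_one_iff]
  refine Nat.eq_one_of_dvd_coprimes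
    (((Fact.out : p.Prime).coprime_iff_not_dvd.2 h).pow_left k) (hk ▸ orderOf_map_dvd (QuotientGroup.mk' N) x) ?_
  rw [Subgroup.index_eq_card]
  exact orderOf_dvd_natCard _

/-- The property passes to quotients. -/
theorem gen_map {H : Type*} [Group H] (f : G →* H) (hf : Function.Surjective f)
    (hgen : Cfsg.pElementClosure p (⊤ : Subgroup G) = ⊤) :
    Cfsg.pElementClosure p (⊤ : Subgroup H) = ⊤ := by
  refine top_le_iff.1 fun y _ => ?_
  obtain ⟨x, rfl⟩ := hf y
  have hle : (⊤ : Subgroup G) ≤ (Cfsg.pElementClosure p (⊤ : Subgroup H)).comap f := by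
    rw [← hgen]
    refine (closure_le _).2 ?_
    rintro w ⟨-, k, hk⟩
    obtain ⟨j, -, hj⟩ := (Nat.dvd_prime_pow Fact.out).1 (hk ▸ orderOf_map_dvd f w)
    exact subset_closure ⟨mem_top _, j, hj⟩
  exact hle (mem_top x)

theorem coprime_core : (Nat.card (Cfsg.pPrimeCore p G)).Coprime p :=
  CfsgLib.Solvable.pPrimeCore_coprime p

theorem dvd_card_quotient (hp : p ∣ Nat.card G) [(Cfsg.pPrimeCore p G).Normal] :
    p ∣ Nat.card (G ⧸ Cfsg.pPrimeCore p G) := by
  rw [← (Cfsg.pPrimeCore p G).card_mul_index, Subgroup.index_eq_card] at hp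
  exact (Nat.Coprime.dvd_of_dvd_mul_left (coprime_core (G := G) (p := p)).symm hp)

/-- `G = S O` forces `p`-solvability. -/
theorem isPSolvable_of_sup (S : Sylow p G) (h : (S : Subgroup G) ⊔ Cfsg.pPrimeCore p G = ⊤) :
    Cfsg.IsPSolvable p G := by
  haveI := CfsgLib.Solvable.pPrimeCore_normal p G
  refine ⟨2, ![⊥, Cfsg.pPrimeCore p G, ⊤], rfl, rfl, ?_, ?_, ?_⟩
  · refine Fin.monotone_iff_le_succ.2 fun i => ?_
    fin_cases i <;> simp
  · intro i
    fin_cases i <;> dsimp <;> infer_instance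
  · intro i
    fin_cases i
    · right
      simpa using coprime_core (G := G) (p := p)
    · left
      have hs : Function.Surjective
          ((QuotientGroup.mk' (Cfsg.pPrimeCore p G)).comp (S : Subgroup G).subtype) := by
        rw [← MonoidHom.range_eq_top, MonoidHom.range_comp, range_subtype,
          ← map_top_of_surjective _ (QuotientGroup.mk'_surjective (Cfsg.pPrimeCore p G)), ← h,
          Subgroup.map_sup, QuotientGroup.map_mk'_self, sup_bot_eq]
      obtain ⟨n, hn⟩ := (IsPGroup.of_surjective S.2 _ hs).exists_card_eq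
      exact ⟨n, by simpa [Subgroup.index_eq_card] using hn⟩

/-- Rank one `p`-groups are cyclic, or quaternion with `p = 2`. -/
theorem sylow_cases (S : Sylow p G) (hr : Cfsg.PRankLE p 1 ↥(S : Subgroup G)) :
    IsCyclic ↥(S : Subgroup G) ∨
      (p = 2 ∧ ∃ k : ℕ, Nonempty (↥(S : Subgroup G) ≃* QuaternionGroup (2 ^ (k + 1)))) := by
  have huniq : ∀ H K : Subgroup ↥(S : Subgroup G), Nat.card H = p → Nat.card K = p → H = K := by
    intro H K hH hK
    classical
    have key : ∀ L : Subgroup ↥(S : Subgroup G), Nat.card L = p → ∀ x ∈ L, x ≠ 1 → L = zpowers x := by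
      intro L hL x hx hx1
      refine (Subgroup.eq_of_le_of_card_ge (zpowers_le.2 hx) ?_).symm
      rw [hL, Nat.card_zpowers]
      have hd : orderOf x ∣ p := (Subgroup.orderOf_dvd_natCard L hx).trans hL.dvd
      rcases (Fact.out : p.Prime).eq_one_or_self_of_dvd _ hd with h | h
      · exact absurd (orderOf_eq_one_iff.1 h) hx1
      · exact h.ge
    obtain ⟨c, hc⟩ : ∃ c : center ↥(S : Subgroup G), orderOf c = p := by
      haveI : Nontrivial ↥(S : Subgroup G) := by
        have h1 := Finite.one_lt_card_iff_nontrivial.1 ((Fact.out : p.Prime).one_lt.trans_eq hH.symm)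
        obtain ⟨x, y, hxy⟩ := h1
        exact ⟨x, y, fun e => hxy (Subtype.ext e)⟩
      haveI := S.2.center_nontrivial
      exact exists_prime_orderOf_dvd_card' p (by
        obtain ⟨k, hk, hk'⟩ := (S.2.to_subgroup (center ↥(S : Subgroup G))).nontrivial_iff_card.1 inferInstance
        rw [hk']; exact dvd_pow_self p hk.ne')
    have hco : orderOf (c : ↥(S : Subgroup G)) = p := by rw [Subgroup.orderOf_coe, hc]
    suffices h : ∀ L : Subgroup ↥(S : Subgroup G), Nat.card L = p → L = zpowers (c : ↥(S : Subgroup G)) by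
      rw [h H hH, h K hK]
    intro L hL
    by_contra hne
    set Z := zpowers (c : ↥(S : Subgroup G)) with hZ
    haveI : Z.Normal := ⟨fun y hy a => by
      rw [Subgroup.mem_center_iff.1 (zpowers_le.2 c.2 hy) a, mul_inv_cancel_right]
      exact hy⟩
    have hLe : ∀ a ∈ L, a ^ p = 1 := fun a ha => by
      have h : a ^ Nat.card L = 1 := congrArg Subtype.val (pow_card_eq_one' (x := (⟨a, ha⟩ : L)))
      rwa [hL] at h
    have hZe : ∀ a ∈ Z, a ^ p = 1 := fun a ha => by
      have : a ^ Nat.card Z = 1 := congrArg Subtype.val (pow_card_eq_one' (x := (⟨a, ha⟩ : Z)))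
      rwa [hZ, Nat.card_zpowers, hco] at this
    have hZc : ∀ a ∈ Z, ∀ b, a * b = b * a := fun a ha b =>
      (Subgroup.mem_center_iff.1 (zpowers_le.2 c.2 ha) b).symm
    have hLcomm : IsMulCommutative L := by
      haveI := isCyclic_of_prime_card (α := L) hL
      exact ⟨⟨fun a b => (IsCyclic.commGroup (α := L)).mul_comm a b⟩⟩
    have hmem : ∀ a ∈ L ⊔ Z, ∃ l ∈ L, ∃ z ∈ Z, l * z = a := fun a ha => by
      rw [← SetLike.mem_coe, Subgroup.mul_normal L Z] at ha
      exact ha
    have hcard := hr (L ⊔ Z) ⟨⟨fun a b => Subtype.ext (by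
      obtain ⟨l, hl, z, hz, e1⟩ := hmem a a.2
      obtain ⟨l', hl', z', hz', e2⟩ := hmem b b.2
      show (a : ↥(S : Subgroup G)) * b = b * a
      rw [← e1, ← e2]
      have hll : Commute l l' := congrArg Subtype.val (hLcomm.is_comm.comm (⟨l, hl⟩ : L) ⟨l', hl'⟩)
      exact ((hll.mul_right (hZc z' hz' l).symm).mul_left
        ((show Commute z l' from hZc z hz l').mul_right (hZc z hz z'))).eq)⟩⟩
      (fun a ha => by
        obtain ⟨l, hl, z, hz, rfl⟩ := hmem a ha
        rw [(show Commute l z from (hZc z hz l).symm).mul_pow, hLe l hl, hZe z hz, one_mul])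
    rw [pow_one] at hcard
    refine hne ((key L hL (c : ↥(S : Subgroup G)) ?_ ?_))
    · have h1 : L = L ⊔ Z := Subgroup.eq_of_le_of_card_ge le_sup_left (by rw [hL]; exact hcard)
      rw [h1]
      exact mem_sup_right (mem_zpowers _)
    · intro e
      exact (Fact.out : p.Prime).ne_one (by rw [← hco, e, orderOf_one])
  rcases CfsgLib.Solvable.isCyclic_or_quaternion_of_unique S.2 huniq with h | ⟨hp, n, ⟨e⟩⟩
  · exact Or.inl h
  · match n, e with
    | 0, e =>
      have hc : IsCyclic (QuaternionGroup (2 ^ 0)) := QuaternionGroup.quaternionGroup_one_isCyclic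
      exact Or.inl (isCyclic_of_injective e.toMonoidHom e.injective)
    | k + 1, e => exact Or.inr ⟨hp, k, ⟨e⟩⟩

/-- The cyclic case. -/
theorem cyclic_case (hgen : Cfsg.pElementClosure p (⊤ : Subgroup G) = ⊤) (hpG : p ∣ Nat.card G)
    (S : Sylow p G) (hS : IsCyclic ↥(S : Subgroup G)) :
    (p ≠ 2 ∧ commutator G = ⊤ ∧ IsSimpleGroup (G ⧸ Cfsg.pPrimeCore p G) ∧
      ¬ IsMulCommutative (G ⧸ Cfsg.pPrimeCore p G)) ∨
    (S : Subgroup G) ⊔ Cfsg.pPrimeCore p G = ⊤ := by
  classical
  haveI := CfsgLib.Solvable.pPrimeCore_normal p G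
  set q := QuotientGroup.mk' (Cfsg.pPrimeCore p G) with hq
  have hsurj : Function.Surjective q := QuotientGroup.mk'_surjective _
  have hgen' := gen_map q hsurj hgen
  have hO : Cfsg.pPrimeCore p (G ⧸ Cfsg.pPrimeCore p G) = ⊥ :=
    CfsgLib.Comp.pPrimeCore_quotient_eq_bot p G
  let P : Sylow p (G ⧸ Cfsg.pPrimeCore p G) := S.mapSurjective hsurj
  have hP : IsCyclic ↥(P : Subgroup (G ⧸ Cfsg.pPrimeCore p G)) := by
    haveI := hS
    exact isCyclic_of_surjective (q.subgroupMap (S : Subgroup G)) (q.subgroupMap_surjective _)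
  by_cases hE : Cfsg.layer (G ⧸ Cfsg.pPrimeCore p G) = ⊥
  · right
    obtain ⟨hn, -, -, hidx⟩ := CfsgLib.Invol.cyclicSylow_of_no_component (dvd_card_quotient hpG) hO P hP hE
    haveI := hn
    have htop := eq_top_of_index hgen' (N := (P : Subgroup (G ⧸ Cfsg.pPrimeCore p G))) P.not_dvd_index
    have h1 : ((S : Subgroup G) ⊔ Cfsg.pPrimeCore p G).map q = ⊤ := by
      rw [Subgroup.map_sup, QuotientGroup.map_mk'_self, sup_bot_eq]; exact htop
    have h2 := Subgroup.comap_map_eq_self
      (show q.ker ≤ (S : Subgroup G) ⊔ Cfsg.pPrimeCore p G by rw [hq, QuotientGroup.ker_mk']; exact le_sup_right)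
    rw [h1, Subgroup.comap_top] at h2
    exact h2.symm
  · obtain ⟨L, hL⟩ : ∃ L : Subgroup (G ⧸ Cfsg.pPrimeCore p G), Cfsg.IsComponent L := by
      by_contra h
      push Not at h
      exact hE (le_bot_iff.1 (sSup_le fun L hL => (h L hL).elim))
    obtain ⟨hs, hnc, hidx⟩ := CfsgLib.Invol.cyclicSylow_of_component hO P hP hL
    haveI : (Cfsg.generalizedFittingSubgroup (G ⧸ Cfsg.pPrimeCore p G)).Normal :=
      CfsgLib.Comp.generalizedFittingSubgroup_normal _
    have htop := eq_top_of_index hgen' hidx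
    rw [htop] at hs hnc
    haveI := hs
    haveI hs' : IsSimpleGroup (G ⧸ Cfsg.pPrimeCore p G) := Subgroup.topEquiv.symm.isSimpleGroup
    have hnc' : ¬ IsMulCommutative (G ⧸ Cfsg.pPrimeCore p G) := fun h => hnc
      ⟨⟨fun a b => Subtype.ext (h.is_comm.comm (a : G ⧸ Cfsg.pPrimeCore p G) b)⟩⟩
    have hns : ¬ Group.IsSolvable (G ⧸ Cfsg.pPrimeCore p G) := fun h =>
      hnc' ⟨⟨IsSimpleGroup.comm_iff_isSolvable.2 h⟩⟩
    refine Or.inl ⟨?_, ?_, hs', hnc'⟩
    · rintro rfl
      exact hns (CfsgLib.Recog.GenDihedral.isSolvable_of_cyclic_sylow P hP)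
    · have hc : commutator (G ⧸ Cfsg.pPrimeCore p G) = ⊤ := by
        refine ((commutator (G ⧸ Cfsg.pPrimeCore p G)).normal_of_characteristic.eq_bot_or_eq_top).resolve_left
          fun h => hnc' ⟨⟨fun a b => ?_⟩⟩
        have : ⁅a, b⁆ ∈ commutator (G ⧸ Cfsg.pPrimeCore p G) := commutator_mem_commutator (mem_top a) (mem_top b)
        rw [h, mem_bot, commutatorElement_eq_one_iff_mul_comm] at this
        exact this
      refine eq_top_of_index hgen fun hd => ?_
      have h1 : commutator G ⊔ Cfsg.pPrimeCore p G = ⊤ := by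
        refine Subgroup.map_injective_of_ker_le q (by rw [hq, QuotientGroup.ker_mk']; exact le_sup_right) le_top ?_
        rw [Subgroup.map_sup, QuotientGroup.map_mk'_self, sup_bot_eq, Subgroup.map_top_of_surjective q hsurj,
          _root_.map_commutator_eq, MonoidHom.range_eq_top.2 hsurj, ← _root_.commutator_def, hc]
      have h2 : (commutator G).index ∣ Nat.card (Cfsg.pPrimeCore p G) := by
        rw [← Subgroup.relIndex_top_right, ← h1, sup_comm, Subgroup.relIndex_sup_right]
        exact Subgroup.relIndex_dvd_card _ _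
      exact (Fact.out : p.Prime).ne_one
        (Nat.eq_one_of_dvd_coprimes coprime_core (hd.trans h2) dvd_rfl)

end CfsgLib.Recog.GW.PElem
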